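import Cfsg.Agent.Lib.Goldschmidt.Consumers.Structure.Main
import Cfsg.Agent.Lib.Walter.Main
import Cfsg.Agent.Lib.Bender.Suzuki.Classified
import Cfsg.Agent.Lib.Goldschmidt.RankOne.Main
import Cfsg.Agent.Lib.Goldschmidt.Comp.CentModel

/-!
# The inputs of the structure theorem

* The simple groups with a strongly closed abelian `2`-subgroup are in the list, given Goldschmidt's theorem.
* The groups in the list satisfy the model.
* A `2`-automorphism of a group in the list fixing the involutions of a Sylow `2`-subgroup and trivial modulo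
  them is inner.
-/

set_option autoImplicit false

namespace CfsgLib.Gold.Struct

open Subgroup

universe u

/-- The list, given Goldschmidt's theorem. -/
theorem simpleForm_of
    (hgold : ∀ (X : Type u) [Group X] [Finite X] [IsSimpleGroup X] (S : Sylow 2 X) (A : Subgroup X), A ≠ ⊥ →
      IsMulCommutative A → Cfsg.IsStronglyClosed A (S : Subgroup X) →
        IsMulCommutative (S : Subgroup X) ∨ ∃ H : Subgroup X, Cfsg.IsStronglyEmbedded H) :
    SimpleForm.{u} := by
  intro Y _ _ hs hna Q B hB hBc hBsc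
  haveI := Fact.mk Nat.prime_two
  haveI := hs
  rcases hgold Y Q B hB hBc hBsc with h | ⟨H, hH⟩
  · refine Or.inl (CfsgLib.Walter.classified Y hs hna fun R a b => ?_)
    let e := Sylow.equiv R Q
    exact e.injective (by rw [map_mul, map_mul]; exact isMulCommutative_iff.1 h (e a) (e b))
  · exact Or.inr (CfsgLib.Bender.Suzuki.isoFamilies_of_se CfsgLib.Bender.Suzuki.classified hH)

/-- A `2`-automorphism fixing an elementary Sylow `2`-subgroup is inner by it. -/
theorem inner_of_elementary {Y : Type u} [Group Y] [Finite Y] (hs : IsSimpleGroup Y) (hna : ¬ IsMulCommutative Y)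
    (Q : Sylow 2 Y) (hsq : ∀ x ∈ (Q : Subgroup Y), x * x = 1) (β : MulAut Y) {k : ℕ} (hβ : β ^ 2 ^ k = 1)
    (hfix : ∀ x ∈ (Q : Subgroup Y), β x = x) : ∃ t ∈ (Q : Subgroup Y), ∀ x, β x = t * x * t⁻¹ := by
  haveI := Fact.mk Nat.prime_two
  haveI := hs
  have hcomm : IsMulCommutative (Q : Subgroup Y) := isMulCommutative_iff.2 fun a b => Subtype.ext (by
    show (a : Y) * b = b * a
    have h1 := hsq _ (mul_mem a.2 b.2)
    rw [mul_eq_one_iff_eq_inv, mul_inv_rev, inv_eq_of_mul_eq_one_right (hsq _ a.2),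
      inv_eq_of_mul_eq_one_right (hsq _ b.2)] at h1
    exact h1)
  have hZ : center Y = ⊥ := (inferInstance : (center Y).Normal).eq_bot_or_eq_top.resolve_right
    fun e => hna (isMulCommutative_iff.2 fun a b => (mem_center_iff.1 (e.ge (mem_top a)) b).symm)
  have hcore : Cfsg.pPrimeCore 2 Y = ⊥ := by
    refine (inferInstance : (Cfsg.pPrimeCore 2 Y).Normal).eq_bot_or_eq_top.resolve_right fun e => hna ?_
    have hodd := CfsgLib.Coprime.pPrimeCore_coprime (G := Y) Nat.prime_two
    rw [e, card_top] at hodd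
    haveI := CfsgLib.FT.isSolvable_of_odd Y (Nat.coprime_two_right.1 hodd)
    exact isMulCommutative_iff.2 (IsSimpleGroup.comm_iff_isSolvable.2 this)
  obtain ⟨j, -, hj⟩ := (Nat.dvd_prime_pow Nat.prime_two).1 (orderOf_dvd_of_pow_eq_one hβ)
  obtain ⟨g, hg⟩ := CfsgLib.Fusion.isInner_of_fixes_abelian_sylow hZ hcore Q hcomm β hj hfix
  have hgg : g ^ 2 ^ k = 1 := by
    refine Subgroup.mem_bot.1 (hZ ▸ mem_center_iff.2 fun x => ?_)
    have e : MulAut.conj g = β := MulEquiv.ext fun y => (hg y).symm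
    have h2 : MulAut.conj (g ^ 2 ^ k) x = x := by rw [map_pow, e, hβ]; rfl
    rw [MulAut.conj_apply, mul_inv_eq_iff_eq_mul] at h2
    exact h2.symm
  have hgQ : g ∈ (Q : Subgroup Y) := by
    have hc : ∀ r ∈ (Q : Subgroup Y), g * r * g⁻¹ = r := fun r hr => (hg r).symm.trans (hfix r hr)
    have hn : g ∈ normalizer ((Q : Subgroup Y) : Set Y) := mem_normalizer_fintype fun r hr => (hc r hr).symm ▸ hr
    have hle : (Q : Subgroup Y) ⊔ zpowers g = Q := Q.3
      (Q.2.to_sup_of_normal_left' (CfsgLib.Coprime.isPGroup_zpowers hgg) (zpowers_le.2 hn)) le_sup_left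
    exact hle ▸ mem_sup_right (mem_zpowers g)
  exact ⟨g, hgQ, hg⟩

/-- The inner property of the groups in the list. -/
theorem innerStmt : InnerStmt.{u} := by
  intro Y _ _ hs hna hF Q β k hβ hfix hmod
  haveI := Fact.mk Nat.prime_two
  haveI := hs
  by_cases hab : IsMulCommutative (Q : Subgroup Y)
  · have hc : CfsgLib.Walter.CentForm Y := CfsgLib.Walter.classified Y hs hna fun R a b => by
      let e := Sylow.equiv R Q
      exact e.injective (by rw [map_mul, map_mul]; exact isMulCommutative_iff.1 hab (e a) (e b))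
    have hsq := (CfsgLib.Walter.Rank.sylow_elementary hs hc Q).2
    exact inner_of_elementary hs hna Q hsq β hβ fun x hx => hfix x hx (hsq x hx)
  · have hi : IsoFamilies Y := hF.resolve_left fun hc => hab (isMulCommutative_iff.2 fun a b =>
      abTwo_of_centForm hs hc Q a b)
    have hR := Phi.rankOneFacts Y hs hi Q hab
    obtain ⟨x, hx, e⟩ := hR.inner β hfix fun t ht => by
      obtain ⟨h1, h2⟩ := hmod t ht
      have e1 : β t * t⁻¹ = t⁻¹ * β t := by
        calc β t * t⁻¹ = t * (t⁻¹ * β t) * t⁻¹ := by group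
          _ = t⁻¹ * β t * t * t⁻¹ := by rw [(hR.central _ h1 h2 t ht).symm.eq]
          _ = _ := mul_inv_cancel_right _ _
      rw [e1]
      exact ⟨h1, h2⟩
    exact ⟨x, hx, fun y => by rw [e, MulAut.conj_apply]⟩

/-- The groups in the list satisfy the model. -/
theorem formModelStmt : FormModelStmt.{u} := by
  intro Y _ _ hs hna hF Q
  obtain ⟨hc, h4, τ, hτ, htr⟩ := RankOne.omega_facts hs hF Q
  exact ⟨fun x hx hxx y hy => hc x hx hxx y hy, h4, ⟨τ, hτ, fun x hx hxx hx1 y hy hyy hy1 =>
    htr x hx hxx hx1 y hy hyy hy1⟩, fun α hα hfix hmod =>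
    innerStmt Y hs hna hF Q α 1 (by rw [pow_one, pow_two]; exact MulEquiv.ext hα) hfix hmod⟩

/-- The inputs, given Goldschmidt's theorem. -/
theorem inputs_of
    (hgold : ∀ (X : Type u) [Group X] [Finite X] [IsSimpleGroup X] (S : Sylow 2 X) (A : Subgroup X), A ≠ ⊥ →
      IsMulCommutative A → Cfsg.IsStronglyClosed A (S : Subgroup X) →
        IsMulCommutative (S : Subgroup X) ∨ ∃ H : Subgroup X, Cfsg.IsStronglyEmbedded H) :
    Inputs.{u} :=
  ⟨simpleForm_of hgold, formModelStmt, innerStmt⟩

end CfsgLib.Gold.Struct
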