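import Cfsg.Agent.Lib.Goldschmidt.Comp.Center
import Cfsg.Agent.Lib.Bender.Binary.Frame
import Cfsg.Agent.Lib.Bender.Binary.Models
import Cfsg.Agent.Lib.Invol.CentralNonab.Suz
import Cfsg.Agent.Lib.Walter.Consumers.ReeType
import Cfsg.Prelude.Def_LocalEven

/-!
# The groups of the list: facts used for the structure theorem

An abelian subgroup of a Sylow `2`-subgroup invariant under its normalizer has exponent two; a quasisimple
central extension of a Suzuki group has its centre in every subgroup covering the lifted involutions.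
-/

set_option autoImplicit false
set_option linter.style.haveILetI false

namespace CfsgLib.Gold.Struct

open Subgroup MulAction CfsgLib.Bender.Suzuki
open scoped commutatorElement

universe u

/-- The automorphisms of two-power order fixing the involutions of a Sylow subgroup and trivial modulo them
are inner by that subgroup. -/
def InnerStmt : Prop :=
  ∀ (Y : Type u) [Group Y] [Finite Y], IsSimpleGroup Y → ¬ IsMulCommutative Y → Form Y →
    ∀ Q : Sylow 2 Y, ∀ (β : MulAut Y) (k : ℕ), β ^ 2 ^ k = 1 →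
      (∀ x ∈ (Q : Subgroup Y), x * x = 1 → β x = x) →
      (∀ x ∈ (Q : Subgroup Y), x⁻¹ * β x ∈ (Q : Subgroup Y) ∧ x⁻¹ * β x * (x⁻¹ * β x) = 1) →
        ∃ t ∈ (Q : Subgroup Y), ∀ x, β x = t * x * t⁻¹

variable {Y : Type u} [Group Y] [Finite Y]

theorem exists_se (h : IsoFamilies Y) : ∃ M : Subgroup Y, Cfsg.IsStronglyEmbedded M := by
  rcases h with ⟨F, i1, i2, ⟨n, -, hF⟩, ⟨e⟩⟩ | ⟨F, i1, i2, m, hm, hF, ⟨e⟩⟩ | ⟨F, i1, i2, n, hn, hF, ⟨e⟩⟩
  · haveI := charTwo_of_card hF
    let e' : Y ≃* Matrix.SpecialLinearGroup (Fin 2) F :=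
      e.trans (MulEquiv.ofBijective _ CfsgLib.PushUpTwo.toPSL_bijective).symm
    exact CfsgLib.Bender.Binary.se_map e' CfsgLib.Bender.Binary.se_sl_two
  · obtain ⟨f⟩ := CfsgLib.Lie.Suz.exists_twEquiv (F := F) (m := m) hm hF
    exact CfsgLib.Bender.Binary.se_map (e.trans f.symm) (CfsgLib.Bender.Binary.se_sz hm hF)
  · exact CfsgLib.Bender.Binary.se_map e (CfsgLib.Bender.Binary.se_psu hn hF)

/-- An abelian subgroup of a Sylow `2`-subgroup invariant under its normalizer has exponent two. -/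
theorem exp_two [IsSimpleGroup Y] (hf : Form Y) (R : Sylow 2 Y) {W : Subgroup Y} (hWR : W ≤ (R : Subgroup Y))
    (hWc : ∀ x ∈ W, ∀ y ∈ W, x * y = y * x)
    (hinv : ∀ n ∈ normalizer ((R : Subgroup Y) : Set Y), ∀ x ∈ W, n * x * n⁻¹ ∈ W) : ∀ x ∈ W, x * x = 1 := by
  haveI := Fact.mk Nat.prime_two
  rcases hf with hc | hfam
  · exact fun x hx => (CfsgLib.Walter.Rank.sylow_elementary inferInstance hc R).2 x (hWR hx)
  obtain ⟨M, hM⟩ := exists_se hfam
  obtain ⟨t, Q, E, K, s, r, S, hfaith, ⟨P₀, hP₀⟩, hc⟩ := CfsgLib.Bender.Binary.exists_frame hM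
  haveI := hfaith
  obtain ⟨g, hg⟩ := MulAction.exists_smul_eq Y R P₀
  have hRQ : ∀ x, g * x * g⁻¹ ∈ Q ↔ x ∈ (R : Subgroup Y) := by
    intro x
    rw [← hP₀, ← hg, Sylow.coe_subgroup_smul]
    constructor
    · rintro ⟨y, hy, he⟩
      rw [← (MulAut.conj g).injective (he : MulAut.conj g y = MulAut.conj g x)]
      exact hy
    · exact fun hx => ⟨x, hx, rfl⟩
  -- the image of `W` in `Q`
  set W' := W.map (MulAut.conj g).toMonoidHom
  have hW'Q : W' ≤ Q := by rintro _ ⟨x, hx, rfl⟩; exact (hRQ x).2 (hWR hx)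
  have hW'c : ∀ x ∈ W', ∀ y ∈ W', x * y = y * x := by
    rintro _ ⟨x, hx, rfl⟩ _ ⟨y, hy, rfl⟩
    rw [← map_mul, ← map_mul, hWc x hx y hy]
  have hW'inv : ∀ n ∈ normalizer (Q : Set Y), ∀ x ∈ W', n * x * n⁻¹ ∈ W' := by
    rintro n hn _ ⟨x, hx, rfl⟩
    refine ⟨g⁻¹ * n * g * x * (g⁻¹ * n * g)⁻¹, hinv _ (mem_normalizer_iff.2 fun y => ?_) x hx, ?_⟩
    · rw [← hRQ y, ← hRQ (g⁻¹ * n * g * y * (g⁻¹ * n * g)⁻¹)]
      rw [show g * (g⁻¹ * n * g * y * (g⁻¹ * n * g)⁻¹) * g⁻¹ = n * (g * y * g⁻¹) * n⁻¹ by group]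
      exact mem_normalizer_iff.1 hn _
    · show g * _ * g⁻¹ = n * (g * x * g⁻¹) * n⁻¹
      group
  have hiff : ∀ x ∈ W', x ∈ E ↔ x * x = 1 := fun x hx =>
    ⟨fun h => S.base.e_sq x h, fun h => (S.mem_E x).2 ⟨hW'Q hx, h⟩⟩
  suffices key : W' ≤ E by
    intro x hx
    have h1 := (hiff _ ⟨x, hx, rfl⟩).1 (key ⟨x, hx, rfl⟩)
    rw [← map_mul] at h1
    exact (MulAut.conj g).map_eq_one_iff.1 h1
  rcases hc with h | h | h
  · exact hW'Q.trans (Subgroup.eq_of_le_of_card_ge S.base.le h.le).ge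
  · -- a single class off the centre: `Q` would be abelian
    intro x hx
    by_contra hxE
    have hr := S.not_r_mem_of_sq h
    obtain ⟨k, hk, e, he, hxe⟩ := S.base.exists_class hr h x (hW'Q hx) hxE
    simp only [CfsgLib.RootInvol.OddPartner.cj] at hxe
    have hKn : ∀ c ∈ K, c ∈ normalizer (Q : Set Y) := fun c hc =>
      mem_normalizer_fintype fun y hy => S.base.k_q c hc y hy
    have hcov : ∀ y ∈ Q, ∃ w ∈ W', ∃ e' ∈ E, y = w * e' := by
      intro y hy
      by_cases hyE : y ∈ E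
      · exact ⟨1, one_mem _, y, hyE, (one_mul y).symm⟩
      obtain ⟨c, hc', e', he', hye⟩ := S.base.exists_class hr h y hy hyE
      simp only [CfsgLib.RootInvol.OddPartner.cj] at hye
      refine ⟨(c * k⁻¹) * x * (c * k⁻¹)⁻¹, hW'inv _ (mul_mem (hKn c hc') (inv_mem (hKn k hk))) x hx,
        ((c * k⁻¹) * e * (c * k⁻¹)⁻¹)⁻¹ * e', mul_mem (inv_mem ?_) he', ?_⟩
      · refine (S.mem_E _).2 ⟨(mem_normalizer_iff.1 (mul_mem (hKn c hc') (inv_mem (hKn k hk))) e).1
          (S.base.le he), ?_⟩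
        rw [show c * k⁻¹ * e * (c * k⁻¹)⁻¹ * (c * k⁻¹ * e * (c * k⁻¹)⁻¹) =
          c * k⁻¹ * (e * e) * (c * k⁻¹)⁻¹ by group, S.base.e_sq e he]
        group
      · rw [hye, hxe]; group
    have hab : ∀ y ∈ Q, ∀ z ∈ Q, y * z = z * y := by
      intro y hy z hz
      obtain ⟨v, hv, e₁, he₁, rfl⟩ := hcov y hy
      obtain ⟨w, hw, e₂, he₂, rfl⟩ := hcov z hz
      have c1 : Commute v w := hW'c v hv w hw
      have c2 : ∀ {e' : Y}, e' ∈ E → ∀ {q : Y}, q ∈ Q → Commute e' q := fun he' _ hq => S.base.e_comm _ he' _ hq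
      exact ((c1.mul_right (c2 he₂ (hW'Q hv)).symm).mul_left
        ((c2 he₁ (hW'Q hw)).mul_right (c2 he₁ (S.base.le he₂)))).eq
    refine hxE ((CfsgLib.Bender.Binary.center_eq S (Or.inr (Or.inl h))).le ⟨⟨x, hW'Q hx⟩,
      mem_center_iff.2 fun y => Subtype.ext (hab y y.2 x (hW'Q hx)), rfl⟩)
  · -- an element of the kernel of the base line is free off the centre
    have hC := S.cubic h
    obtain ⟨F, _, _, _, C, -⟩ := hC.toSetting.exists_efield
    obtain ⟨p, w, hw⟩ := (hC.lineFacts C.card_E).exists_kernel hC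
    obtain ⟨hwD, hwC⟩ := Subgroup.mem_inf.1 hw.mem
    have hwN : w ∈ normalizer (Q : Set Y) :=
      mem_normalizer_fintype fun y hy => S.rank.conj_mem w hwD.1 y hy
    have h4 : ∀ x ∈ W', x * x ∈ E → x ∈ E := by
      intro x hx hxx
      by_contra hxE
      have hx' := hW'inv w hwN x hx
      have hwx : Commute w (x * x) := (mem_centralizer_iff.1 hwC _ hxx).symm
      set e := x⁻¹ * (w * x * w⁻¹) with he
      have heW : e ∈ W' := mul_mem (inv_mem hx) hx'
      have hee : e * e = 1 := by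
        have hcm : Commute (x⁻¹) (w * x * w⁻¹) := hW'c _ (inv_mem hx) _ hx'
        calc e * e = x⁻¹ * ((w * x * w⁻¹) * x⁻¹) * (w * x * w⁻¹) := by rw [he]; group
          _ = (x * x)⁻¹ * (w * (x * x) * w⁻¹) := by rw [← hcm.eq]; group
          _ = 1 := by rw [hwx.eq, mul_inv_cancel_right, inv_mul_cancel]
      have hwe : Commute w e := (mem_centralizer_iff.1 hwC e ((hiff e heW).2 hee)).symm
      have hiter : ∀ n : ℕ, w ^ n * x * (w ^ n)⁻¹ = x * e ^ n := by
        intro n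
        induction n with
        | zero => simp
        | succ n ih =>
          rw [pow_succ', show w * w ^ n * x * (w * w ^ n)⁻¹ = w * (w ^ n * x * (w ^ n)⁻¹) * w⁻¹ by group, ih,
            show w * (x * e ^ n) * w⁻¹ = (w * x * w⁻¹) * (w * e ^ n * w⁻¹) by group, (hwe.pow_right n).eq,
            mul_inv_cancel_right, pow_succ' e, ← mul_assoc, he]
          group
      have hep : e ^ p = 1 := by
        have h1 := hiter p
        rw [← hw.order, pow_orderOf_eq_one] at h1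
        simp only [one_mul, inv_one, mul_one] at h1
        rw [← hw.order]
        exact mul_left_cancel (h1.symm.trans (mul_one x).symm)
      have he1 : e = 1 := by
        have hd1 := orderOf_dvd_of_pow_eq_one hep
        have hd2 := orderOf_dvd_of_pow_eq_one (show e ^ 2 = 1 by rw [sq, hee])
        rw [← orderOf_eq_one_iff]
        exact Nat.eq_one_of_dvd_coprimes ((Nat.coprime_primes hw.prime Nat.prime_two).2
          (by have := hw.three_le; omega)) hd1 hd2
      have hwcx : Commute w x := by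
        rw [he, inv_mul_eq_one] at he1
        exact (mul_inv_eq_iff_eq_mul.1 he1.symm)
      have hw1 : w ≠ 1 := fun e1 => by
        have h2 := hw.three_le
        rw [← hw.order, e1, orderOf_one] at h2
        omega
      refine hC.toSetting.ker_free hC.r_mem C.card_E h hw.mem hw1 (c := x • t • ((1 : Y) : Y ⧸ M)) ?_ ?_
      · exact fun hb => hxE ((hC.mem_baseLine_iff (hW'Q hx)).1 hb)
      · rw [← mul_smul, hwcx.eq, mul_smul, show w • t • ((1 : Y) : Y ⧸ M) = t • ((1 : Y) : Y ⧸ M) from hwD.2]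
    intro x hx
    obtain ⟨k, hk⟩ := (S.two ⟨x, hW'Q hx⟩)
    have hk' : x ^ 2 ^ k = 1 := congrArg Subtype.val hk
    clear hk
    induction k generalizing x with
    | zero => rw [pow_zero, pow_one] at hk'; rw [hk']; exact one_mem _
    | succ k ih =>
      refine h4 x hx ?_
      exact ih (mul_mem hx hx) (by rw [← sq, ← pow_mul, ← pow_succ', hk'])

/-- A central element of a perfect group lies in the derived group of a Sylow `2`-subgroup containing it. -/
theorem mem_derived_of_central {H : Type*} [Group H] [Finite H] (hperf : commutator H = ⊤) (T : Sylow 2 H)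
    {z : H} (hz : z ∈ center H) (hzT : z ∈ (T : Subgroup H)) : z ∈ ⁅(T : Subgroup H), (T : Subgroup H)⁆ := by
  haveI := Fact.mk Nat.prime_two
  set φ : (T : Subgroup H) →* Abelianization (T : Subgroup H) := Abelianization.of
  have h1 : MonoidHom.transfer φ z = 1 :=
    (Abelianization.commutator_subset_ker _) (hperf ▸ mem_top z)
  rw [MonoidHom.transfer_eq_pow _ _ fun k g₀ _ => by
    rw [mul_assoc, ← (Subgroup.mem_center_iff.1 (pow_mem hz k) g₀), inv_mul_cancel_left]] at h1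
  have h2 : φ ⟨z, hzT⟩ ^ (T : Subgroup H).index = 1 := by
    rw [← map_pow, ← h1]
    exact congrArg φ (Subtype.ext rfl)
  have hcop : (orderOf (⟨z, hzT⟩ : (T : Subgroup H))).Coprime (T : Subgroup H).index :=
    T.card_coprime_index.coprime_dvd_left (orderOf_dvd_natCard _)
  have h3 : φ ⟨z, hzT⟩ = 1 := orderOf_eq_one_iff.1 (Nat.eq_one_of_dvd_coprimes hcop
    (orderOf_map_dvd φ _) (orderOf_dvd_of_pow_eq_one h2))
  have h4 : (⟨z, hzT⟩ : (T : Subgroup H)) ∈ φ.ker := h3
  rw [Abelianization.ker_of] at h4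
  rw [← map_subtype_commutator]
  exact ⟨_, h4, rfl⟩

variable {K : Type u} [Group K] [Finite K]

/-- In a quasisimple group with Suzuki quotient the centre lies in a normal subgroup of a Sylow subgroup
covering the involutions of the quotient. -/
theorem center_le_of_suzuki (hperf : commutator K = ⊤) (hsuz : Cfsg.Lie.IsoSuzuki (K ⧸ center K))
    (T : Sylow 2 K) (hZT : center K ≤ (T : Subgroup K)) (B : Subgroup K)
    (hnorm : ∀ x ∈ (T : Subgroup K), ∀ b ∈ B, x * b * x⁻¹ ∈ B)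
    (hcen : ∀ x ∈ (T : Subgroup K), ∀ b ∈ B, x * b * x⁻¹ * b⁻¹ ∈ center K)
    (hcov : ∀ x ∈ (T : Subgroup K), x * x ∈ center K → ∃ b ∈ B, b⁻¹ * x ∈ center K) : center K ≤ B := by
  classical
  haveI := Fact.mk Nat.prime_two
  obtain ⟨F, i1, i2, m, hm, hF, ⟨e⟩⟩ := hsuz
  obtain ⟨f⟩ := CfsgLib.Lie.Suz.exists_twEquiv (F := F) (m := m) hm hF
  have hqs : Function.Surjective (QuotientGroup.mk' (center K)) := QuotientGroup.mk'_surjective _
  let e₀ : (K ⧸ center K) ≃* Cfsg.Sz F m := e.trans f.symm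
  haveI : Finite (Cfsg.Sz F m) := Finite.of_equiv _ e₀.toEquiv
  let U₀ : Sylow 2 (Cfsg.Sz F m) :=
    (CfsgLib.Lie.Suz.U_isPGroup hF).toSylow (CfsgLib.Lie.Suz.U_index_not_dvd hm hF)
  obtain ⟨g, hg⟩ := MulAction.exists_smul_eq (Cfsg.Sz F m)
    ((T.mapSurjective hqs).mapSurjective (f := e₀.toMonoidHom) e₀.surjective) U₀
  let q : K →* Cfsg.Sz F m :=
    ((e₀.trans (MulAut.conj g)).toMonoidHom).comp (QuotientGroup.mk' (center K))
  have hker : ∀ x, x ∈ q.ker ↔ x ∈ center K := fun x => by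
    rw [MonoidHom.mem_ker]
    show (e₀.trans (MulAut.conj g)) (x : K ⧸ center K) = 1 ↔ _
    exact (e₀.trans (MulAut.conj g)).map_eq_one_iff.trans (QuotientGroup.eq_one_iff x)
  have hmem : ∀ x, q x ∈ CfsgLib.Lie.Suz.U hF ↔ x ∈ (T : Subgroup K) := by
    intro x
    rw [show CfsgLib.Lie.Suz.U hF = (U₀ : Subgroup (Cfsg.Sz F m)) from rfl, ← hg, Sylow.coe_subgroup_smul,
      show (((T.mapSurjective hqs).mapSurjective (f := e₀.toMonoidHom) e₀.surjective : Sylow 2 (Cfsg.Sz F m)) :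
          Subgroup (Cfsg.Sz F m)) = ((T : Subgroup K).map (QuotientGroup.mk' (center K))).map e₀.toMonoidHom
        from rfl]
    constructor
    · rintro ⟨_, ⟨_, ⟨y, hy, rfl⟩, rfl⟩, h⟩
      have h1 := QuotientGroup.eq.1 (e₀.injective ((MulAut.conj g).injective h))
      have h2 := mul_mem hy (hZT h1)
      rwa [mul_inv_cancel_left] at h2
    · intro hx
      exact ⟨_, ⟨_, ⟨x, hx, rfl⟩, rfl⟩, rfl⟩
  set N := center K ⊓ B
  haveI : N.Normal := ⟨fun n hn k => by
    rw [mem_center_iff.1 hn.1 k, mul_inv_cancel_right]; exact hn⟩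
  let p : K ⧸ N →* Cfsg.Sz F m := QuotientGroup.lift N q fun x hx => (hker x).2 hx.1
  have hp : ∀ x : K, p (QuotientGroup.mk x) = q x := fun x => rfl
  intro z hz
  have h1 := CfsgLib.CentralNonab.suz_preimage_of_invol_central hm hF (p := p)
    (fun y => by
      obtain ⟨x, hx⟩ := ((e₀.trans (MulAut.conj g)).surjective.comp hqs) y
      exact ⟨QuotientGroup.mk x, hx⟩)
    (fun y hy => by
      obtain ⟨x, rfl⟩ := QuotientGroup.mk_surjective y
      refine mem_center_iff.2 fun y' => ?_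
      obtain ⟨x', rfl⟩ := QuotientGroup.mk_surjective y'
      rw [← QuotientGroup.mk_mul, ← QuotientGroup.mk_mul, mem_center_iff.1 ((hker x).1 hy) x'])
    (fun y hyU hy2 x hxU => by
      obtain ⟨y, rfl⟩ := QuotientGroup.mk_surjective y
      obtain ⟨x, rfl⟩ := QuotientGroup.mk_surjective x
      have hyT := (hmem y).1 hyU
      have hxT := (hmem x).1 hxU
      obtain ⟨b, hb, hbz⟩ := hcov y hyT (((QuotientGroup.eq_one_iff (y * y)).1 hy2).1)
      have hN : x * y * x⁻¹ * y⁻¹ ∈ N := by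
        have e1 : x * y * x⁻¹ * y⁻¹ = x * b * x⁻¹ * b⁻¹ := by
          rw [show y = b * (b⁻¹ * y) by group,
            show x * (b * (b⁻¹ * y)) * x⁻¹ = x * b * x⁻¹ * (x * (b⁻¹ * y) * x⁻¹) by group,
            mem_center_iff.1 hbz x, mul_inv_cancel_right]
          group
        rw [e1]
        exact ⟨hcen x hxT b hb, B.mul_mem (hnorm x hxT b hb) (B.inv_mem hb)⟩
      have h2 := (QuotientGroup.eq_one_iff (N := N) _).2 hN
      rw [QuotientGroup.mk_mul, QuotientGroup.mk_mul, QuotientGroup.mk_mul, QuotientGroup.mk_inv,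
        QuotientGroup.mk_inv, mul_inv_eq_one, mul_inv_eq_iff_eq_mul] at h2
      exact h2)
    (z := QuotientGroup.mk z) ((hker z).2 hz) (by
      have h3 : (QuotientGroup.mk' N) z ∈ ⁅(T : Subgroup K), (T : Subgroup K)⁆.map (QuotientGroup.mk' N) :=
        mem_map_of_mem _ (mem_derived_of_central hperf T hz (hZT hz))
      rw [map_commutator] at h3
      refine commutator_mono ?_ ?_ h3 <;> rintro _ ⟨x, hx, rfl⟩ <;> exact (hmem x).2 hx)
  exact ((QuotientGroup.eq_one_iff z).1 h1).2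

/-- The simple groups of the list are Goldschmidt groups. -/
theorem isGoldschmidtGroup [IsSimpleGroup Y] (hf : Form Y)
    (hab : CfsgLib.Walter.CentForm Y → CfsgLib.Walter.AbTwo Y) : Cfsg.IsGoldschmidtGroup Y := by
  have h4 : ∀ {F : Type} [Field F] [Fintype F] {n : ℕ}, 2 ≤ n → Fintype.card F = 2 ^ n →
      Nonempty (Y ≃* Matrix.ProjectiveSpecialLinearGroup (Fin 2) F) → Cfsg.IsGoldschmidtGroup Y := by
    intro F _ _ n hn hF he
    rcases Nat.lt_or_ge n 3 with h | h
    · obtain rfl : n = 2 := by omega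
      obtain ⟨e⟩ := he
      haveI : Fact (Nat.Prime 5) := ⟨by norm_num⟩
      obtain ⟨e'⟩ := CfsgLib.Walter.Consumers.iso_psl_five (show Fintype.card F = 4 by rw [hF]; norm_num) e
      exact Or.inr (Or.inr (Or.inr (Or.inr (Or.inl ⟨ZMod 5, inferInstance, inferInstance, 5, ZMod.card 5, le_rfl,
        Or.inr rfl, ⟨e'⟩⟩))))
    · exact Or.inr (Or.inl ⟨F, _, _, n, h, hF, he⟩)
  rcases hf with hc | ⟨F, i1, i2, ⟨n, hn, hF⟩, he⟩ | hsz | ⟨F, i1, i2, n, hn, hF, he⟩
  · rcases hc with ⟨F, i1, i2, ⟨n, hn, hF⟩ | ⟨h5, hF⟩, he⟩ | hr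
    · exact h4 hn hF he
    · exact Or.inr (Or.inr (Or.inr (Or.inr (Or.inl ⟨F, i1, i2, Fintype.card F, rfl, h5, hF, he⟩))))
    · rcases CfsgLib.Walter.Consumers.reeType_cases (hab (Or.inr hr)) hr with h | h
      · exact Or.inr (Or.inr (Or.inr (Or.inr (Or.inr h))))
      · exact Or.inl h
  · exact h4 hn hF he
  · exact Or.inr (Or.inr (Or.inl hsz))
  · exact Or.inr (Or.inr (Or.inr (Or.inl ⟨F, i1, i2, n, hn, by rw [hF, ← pow_mul, mul_comm, pow_mul]; norm_num, he⟩)))

end CfsgLib.Gold.Struct
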