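import Cfsg.Agent.Lib.Goldschmidt.Consumers.Structure.Pre
import Cfsg.Agent.Lib.Goldschmidt.Consumers.Structure.Facts

/-!
# A component of a group generated by the conjugates of an abelian strongly closed `2`-subgroup
-/

set_option autoImplicit false
set_option linter.style.haveILetI false

namespace CfsgLib.Gold.Struct

open Subgroup
open scoped commutatorElement

universe u

/-- The simple groups with a strongly closed abelian subgroup are in the list. -/
def SimpleForm : Prop :=
  ∀ (Y : Type u) [Group Y] [Finite Y], IsSimpleGroup Y → ¬ IsMulCommutative Y →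
    ∀ (Q : Sylow 2 Y) (B : Subgroup Y), B ≠ ⊥ → IsMulCommutative B →
      Cfsg.IsStronglyClosed B (Q : Subgroup Y) → Form Y

/-- What is used about the simple groups. -/
structure Inputs : Prop where
  form : SimpleForm.{u}
  model : FormModelStmt.{u}
  inner : InnerStmt.{u}

theorem abTwo_of_centForm {Y : Type u} [Group Y] [Finite Y] (hs : IsSimpleGroup Y)
    (hc : CfsgLib.Walter.CentForm Y) : CfsgLib.Walter.AbTwo Y := by
  intro Q a b
  have hsq := (CfsgLib.Walter.Rank.sylow_elementary hs hc Q).2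
  refine Subtype.ext ?_
  have h1 := hsq _ (mul_mem a.2 b.2)
  rw [mul_eq_one_iff_eq_inv, mul_inv_rev, inv_eq_of_mul_eq_one_right (hsq _ a.2),
    inv_eq_of_mul_eq_one_right (hsq _ b.2)] at h1
  exact h1

variable {X : Type u} [Group X] [Finite X] {P : Sylow 2 X} {B : Subgroup X}

/-- The facts on a component. -/
structure CompSpec (P : Sylow 2 X) (B K : Subgroup X) : Prop where
  center_le : ∀ z : K, z ∈ center K → (z : X) ∈ B
  sq_mem : ∀ x : K, (x : X) ∈ (P : Subgroup X) → x * x ∈ center K →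
    (x : X) ∈ B ∧ ∃ z ∈ center K, (z⁻¹ * x) * (z⁻¹ * x) = 1
  split : ∀ b ∈ B, ∃ v ∈ B ⊓ K, b * v⁻¹ ∈ centralizer (K : Set X)
  sq_central : ∀ x : K, (x : X) ∈ B → x * x ∈ center K
  simple : IsSimpleGroup (K ⧸ center K)
  noncomm : ¬ IsMulCommutative (K ⧸ center K)
  goldschmidt : Cfsg.IsGoldschmidtGroup (K ⧸ center K)

set_option maxHeartbeats 1000000 in
theorem Pre.compSpec (h : Pre P B) (hI : Inputs.{u}) {K : Subgroup X} (hK : Cfsg.IsComponent K) :
    CompSpec P B K := by
  haveI := Fact.mk Nat.prime_two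
  haveI hKn := h.component_normal hK
  obtain ⟨T, hT, -⟩ := h.sylowK hK
  set q := QuotientGroup.mk' (center K) with hq
  have hqs : Function.Surjective q := QuotientGroup.mk'_surjective _
  set Tq := (T : Subgroup K).map q with hTq
  set BK := B.subgroupOf K with hBK
  set Bq := BK.map q with hBq
  haveI := hK.2.2
  have hnc : ¬ IsMulCommutative (K ⧸ center K) := fun hc => by
    haveI : Group.IsSolvable (center K) := CfsgLib.Coprime.isSolvable_of_isMulCommutative inferInstance
    haveI : Group.IsSolvable (K ⧸ center K) :=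
      Group.isSolvable_of_comm fun a b => isMulCommutative_iff.1 hc a b
    haveI : Group.IsSolvable K :=
      Group.isSolvable_of_ker_le_range (center K).subtype q (by simp [hq])
    exact CfsgLib.Coprime.not_isSolvable_of_isComponent hK inferInstance
  have hBT : ∀ b ∈ BK, b ∈ (T : Subgroup K) := fun b hb => (hT b).2 (h.closed.1 hb)
  have hsc : Cfsg.IsStronglyClosed BK (T : Subgroup K) :=
    ⟨hBT, fun b hb g hg => h.conj_mem (g := (g : X)) hb ((hT _).1 hg)⟩
  have hscq := Cfsg.Agent.S1250.result T BK hsc (center K)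
  rw [← hq, ← hBq, ← hTq] at hscq
  have hBne : Bq ≠ ⊥ := fun e => by
    obtain ⟨b, hb, hbc⟩ := h.exists_noncentral hK
    exact hbc ((QuotientGroup.eq_one_iff _).1 ((Subgroup.eq_bot_iff_forall _).1 e _
      (mem_map_of_mem q (mem_subgroupOf.2 hb))))
  have hBcomm : ∀ x ∈ Bq, ∀ y ∈ Bq, x * y = y * x := by
    rintro _ ⟨a, ha, rfl⟩ _ ⟨b, hb, rfl⟩
    rw [← map_mul, ← map_mul, show a * b = b * a from Subtype.ext (h.comm _ ha _ hb)]
  let Ts : Sylow 2 (K ⧸ center K) := T.mapSurjective hqs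
  have hTs : (Ts : Subgroup (K ⧸ center K)) = Tq := Sylow.coe_mapSurjective hqs T
  have hscq' : Cfsg.IsStronglyClosed Bq (Ts : Subgroup (K ⧸ center K)) := by rw [hTs]; exact hscq
  have hform : Form (K ⧸ center K) := hI.form _ inferInstance hnc Ts Bq hBne
    (isMulCommutative_iff.2 fun a b => Subtype.ext (hBcomm a a.2 b b.2)) hscq'
  have hM : Model (K ⧸ center K) Tq := by
    have := hI.model (K ⧸ center K) inferInstance hnc hform Ts
    rwa [hTs] at this
  -- the image of `B` consists of involutions, all of them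
  have hBsq : ∀ x ∈ Bq, x * x = 1 := exp_two hform Ts hscq'.1 hBcomm fun n hn x hx =>
    hscq'.2 x hx n ((mem_normalizer_iff.1 hn x).1 (hscq'.1 hx))
  have hsqc : ∀ b ∈ BK, b * b ∈ center K := fun b hb => (QuotientGroup.eq_one_iff _).1 (by
    have := hBsq _ (mem_map_of_mem q hb)
    rwa [← map_mul] at this)
  have hall : ∀ y ∈ Tq, y * y = 1 → y ∈ Bq := by
    intro y hy hyy
    by_cases hy1 : y = 1
    · rw [hy1]; exact one_mem _
    obtain ⟨b, hb, hb1⟩ := Bq.bot_or_exists_ne_one.resolve_left hBne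
    obtain ⟨τ, hτ, htr⟩ := hM.torus
    obtain ⟨i, hi⟩ := htr b (hscq.1 hb) (hBsq b hb) hb1 y hy hyy hy1
    have h1 := hscq.2 b hb (τ ^ i) (by rw [hi]; exact hy)
    rwa [hi] at h1
  have hcov : ∀ x ∈ (T : Subgroup K), x * x ∈ center K → ∃ b ∈ BK, b⁻¹ * x ∈ center K := by
    intro x hx hxx
    obtain ⟨b, hb, e⟩ := hall (q x) (mem_map_of_mem q hx) (by rw [← map_mul]; exact (QuotientGroup.eq_one_iff _).2 hxx)
    exact ⟨b, hb, QuotientGroup.eq.1 e⟩
  have hZT : center K ≤ (T : Subgroup K) := fun z hz => (hT z).2 (h.center_le_sylow hK hz P)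
  have hperf : commutator K = ⊤ := by
    haveI := hK.2.1
    exact Group.IsPerfect.commutator_eq_top (G := K)
  -- the centre lies in `B`
  have hZB : center K ≤ BK := by
    have habel : (∀ x ∈ (T : Subgroup K), x * x ∈ center K) → center K ≤ BK := by
      intro hsq
      haveI : IsMulCommutative (T : Subgroup K) := isMulCommutative_iff.2 fun a b => Subtype.ext (by
        obtain ⟨a', ha', hza⟩ := hcov a a.2 (hsq a a.2)
        obtain ⟨b', hb', hzb⟩ := hcov b b.2 (hsq b b.2)
        show (a : K) * b = b * a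
        have e1 : Commute a' b' := Subtype.ext (h.comm _ ha' _ hb')
        have e2 : ∀ {z : K}, z ∈ center K → ∀ w, Commute z w := fun hz w => (mem_center_iff.1 hz w).symm
        rw [show (a : K) = a' * (a'⁻¹ * a) by group, show (b : K) = b' * (b'⁻¹ * b) by group]
        exact ((e1.mul_left (e2 hza b')).mul_right ((e2 hzb a').symm.mul_left (e2 hza _))).eq)
      intro z hz
      rw [CfsgLib.Fusion.central_inf_commutator_eq_one (T : Subgroup K) T.card_coprime_index hz
        (hperf.symm ▸ mem_top z) (hZT hz)]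
      exact one_mem _
    have hcent : CfsgLib.Walter.CentForm (K ⧸ center K) → center K ≤ BK := fun hc => habel fun x hx => by
      have h1 := (CfsgLib.Walter.Rank.sylow_elementary inferInstance hc Ts).2 (q x)
        (by rw [hTs]; exact mem_map_of_mem q hx)
      rw [← map_mul] at h1
      exact (QuotientGroup.eq_one_iff _).1 h1
    rcases id hform with hc | ⟨F, i1, i2, hn, he⟩ | hsz | ⟨F, i1, i2, n, hn, hF, ⟨e⟩⟩
    · exact hcent hc
    · exact hcent (Or.inl ⟨F, i1, i2, Or.inl hn, he⟩)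
    · refine center_le_of_suzuki hperf hsz T hZT BK (fun x hx b hb => ?_) (fun x hx b hb => ?_) hcov
      · exact (mem_normalizer_iff.1 (h.le_normalizer_sylow ((hT x).1 hx)) (b : X)).1 hb
      · refine (QuotientGroup.eq_one_iff _).1 ?_
        show q (x * b * x⁻¹ * b⁻¹) = 1
        rw [map_mul, map_mul, map_mul, map_inv, map_inv,
          ← hM.central _ (hscq.1 (mem_map_of_mem q hb)) (hBsq _ (mem_map_of_mem q hb)) _ (mem_map_of_mem q hx)]
        group
    · haveI : NeZero (Nat.gcd 3 (2 ^ n + 1)) := ⟨(Nat.gcd_pos_of_pos_left _ (by norm_num)).ne'⟩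
      haveI : Finite (Cfsg.PSU 3 F (2 ^ n)) := Finite.of_equiv _ e.toEquiv
      have hd := card_center_dvd (CfsgLib.CentralNonab.psu_three_multiplier hn hF) hperf e
      rw [Nat.card_congr Multiplicative.toAdd, Nat.card_zmod] at hd
      obtain ⟨k, hk⟩ := IsPGroup.iff_card.1 (T.2.to_le hZT)
      rcases Nat.eq_zero_or_pos k with rfl | hk0
      · rw [show center K = ⊥ from Subgroup.card_eq_one.1 (by simpa using hk)]; exact bot_le
      · exfalso
        have h2 : 2 ∣ Nat.gcd 3 (2 ^ n + 1) := ((dvd_pow_self 2 hk0.ne').trans hk.symm.dvd).trans hd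
        have := h2.trans (Nat.gcd_dvd_left _ _)
        norm_num at this
  -- squares central
  have hsqmem : ∀ x ∈ (T : Subgroup K), x * x ∈ center K → x ∈ BK := by
    intro x hx hxx
    obtain ⟨b, hb, hz⟩ := hcov x hx hxx
    have := BK.mul_mem hb (hZB hz)
    rwa [mul_inv_cancel_left] at this
  have hsplit : ∀ a ∈ BK, ∃ z ∈ center K, (z⁻¹ * a) * (z⁻¹ * a) = 1 := by
    intro a ha
    have hcm : ∀ {z : K}, z ∈ center K → ∀ w, Commute z w := fun hz w => (mem_center_iff.1 hz w).symm
    by_cases haZ : a ∈ center K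
    · exact ⟨a, haZ, by simp⟩
    obtain ⟨τ, hτ, htr⟩ := hM.torus
    have key : ∀ b ∈ BK, b ∉ center K → ∃ z ∈ center K, b * b = a * a * (z * z) := by
      intro b hb hbZ
      obtain ⟨i, hi⟩ := htr (q a) (hscq.1 (mem_map_of_mem q ha)) (hBsq _ (mem_map_of_mem q ha))
        (fun e => haZ ((QuotientGroup.eq_one_iff _).1 e)) (q b) (hscq.1 (mem_map_of_mem q hb))
        (hBsq _ (mem_map_of_mem q hb)) fun e => hbZ ((QuotientGroup.eq_one_iff _).1 e)
      obtain ⟨n, hn⟩ := hqs (τ ^ i)
      rw [← hn, ← map_inv, ← map_mul, ← map_mul] at hi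
      have hz := QuotientGroup.eq.1 hi
      refine ⟨(n * a * n⁻¹)⁻¹ * b, hz, ?_⟩
      set z := (n * a * n⁻¹)⁻¹ * b with hzdef
      have hb' : b = n * a * n⁻¹ * z := by rw [hzdef]; group
      calc b * b = n * a * n⁻¹ * (z * (n * a * n⁻¹)) * z := by rw [hb']; group
        _ = n * (a * a) * n⁻¹ * (z * z) := by rw [(hcm hz _).eq]; group
        _ = _ := by rw [← ((hcm (hsqc a ha)) n).eq, mul_inv_cancel_right]
    obtain ⟨b, hb, hbZ, hab⟩ : ∃ b ∈ BK, b ∉ center K ∧ a * b ∉ center K := by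
      by_contra hno
      push Not at hno
      have hle : {y : K ⧸ center K | y ∈ Tq ∧ y * y = 1}.ncard ≤ ({1, (q a)⁻¹} : Set (K ⧸ center K)).ncard := by
        refine Set.ncard_le_ncard (fun y hy => ?_) (Set.toFinite _)
        obtain ⟨b, hb, rfl⟩ := hall y hy.1 hy.2
        by_cases hbZ : b ∈ center K
        · exact Or.inl ((QuotientGroup.eq_one_iff _).2 hbZ)
        · refine Or.inr (eq_inv_of_mul_eq_one_right ?_)
          rw [← map_mul]
          exact (QuotientGroup.eq_one_iff _).2 (hno b hb hbZ)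
      have h2 : ({1, (q a)⁻¹} : Set (K ⧸ center K)).ncard ≤ 2 :=
        (Set.ncard_insert_le _ _).trans (by simp)
      have h4 : 4 ≤ {y : K ⧸ center K | y ∈ Tq ∧ y * y = 1}.ncard := by
        rw [← Nat.card_coe_set_eq]; exact hM.four
      omega
    obtain ⟨z₁, hz₁, e₁⟩ := key b hb hbZ
    obtain ⟨z₂, hz₂, e₂⟩ := key (a * b) (BK.mul_mem ha hb) hab
    have e3 : (a * b) * (a * b) = a * a * (b * b) := by
      have : Commute a b := Subtype.ext (h.comm _ ha _ hb)
      calc (a * b) * (a * b) = a * (b * a) * b := by group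
        _ = a * (a * b) * b := by rw [this.eq]
        _ = _ := by group
    have e4 : a * a = z₂ * z₂ * (z₁ * z₁)⁻¹ := by
      rw [e3, e₁] at e₂
      have h5 : a * a * (a * a * (z₁ * z₁)) = a * a * (z₂ * z₂) := e₂
      have h6 := mul_left_cancel h5
      rw [← h6]; group
    refine ⟨z₂ * z₁⁻¹, mul_mem hz₂ (inv_mem hz₁), ?_⟩
    set z := z₂ * z₁⁻¹ with hzdef
    have hzc : z ∈ center K := mul_mem hz₂ (inv_mem hz₁)
    have e5 : z * z = a * a := by
      rw [e4, hzdef]
      have c : Commute z₁⁻¹ z₂ := hcm (inv_mem hz₁) z₂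
      calc z₂ * z₁⁻¹ * (z₂ * z₁⁻¹) = z₂ * (z₁⁻¹ * z₂) * z₁⁻¹ := by group
        _ = z₂ * (z₂ * z₁⁻¹) * z₁⁻¹ := by rw [c.eq]
        _ = _ := by group
    calc z⁻¹ * a * (z⁻¹ * a) = z⁻¹ * (a * z⁻¹) * a := by group
      _ = z⁻¹ * (z⁻¹ * a) * a := by rw [(hcm (inv_mem hzc) a).eq]
      _ = (z * z)⁻¹ * (a * a) := by group
      _ = 1 := by rw [e5, inv_mul_cancel]
  refine
    { center_le := fun z hz => mem_subgroupOf.1 (hZB hz)
      sq_mem := fun x hx hxx => ⟨hsqmem x ((hT x).2 hx) hxx, hsplit x (hsqmem x ((hT x).2 hx) hxx)⟩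
      split := ?_
      sq_central := fun x hx => hsqc x hx
      simple := inferInstance
      noncomm := hnc
      goldschmidt := isGoldschmidtGroup hform (abTwo_of_centForm inferInstance) }
  -- `B` acts by inner automorphisms
  let Φ : X →* MulAut K := MulAut.conjNormal
  let αhom : X →* MulAut (K ⧸ center K) :=
    { toFun := fun g => QuotientGroup.congr _ _ (Φ g) (CfsgLib.Coprime.map_center_equiv (Φ g))
      map_one' := by
        refine MulEquiv.ext fun y => ?_
        obtain ⟨x, rfl⟩ := hqs y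
        show q (Φ 1 x) = q x
        rw [map_one]; rfl
      map_mul' := fun g g' => by
        refine MulEquiv.ext fun y => ?_
        obtain ⟨x, rfl⟩ := hqs y
        show q (Φ (g * g') x) = q (Φ g (Φ g' x))
        rw [map_mul]; rfl }
  have hα : ∀ (g : X) (x : K), αhom g (q x) = q (Φ g x) := fun g x => rfl
  have hΦ : ∀ (g : X) (x : K), (Φ g x : X) = g * x * g⁻¹ := fun g x => MulAut.conjNormal_apply g x
  have hTn : ∀ b ∈ B, ∀ t ∈ (T : Subgroup K), Φ b t ∈ (T : Subgroup K) := fun b hb t ht => by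
    rw [hT, hΦ]
    exact mul_mem (mul_mem (h.closed.1 hb) ((hT t).1 ht)) (inv_mem (h.closed.1 hb))
  have hinner : ∀ b ∈ B, ∃ x ∈ Tq, ∀ y, αhom b y = x * y * x⁻¹ := by
    intro b hb
    obtain ⟨k, hk⟩ := P.2 ⟨b, h.closed.1 hb⟩
    have hk' : b ^ 2 ^ k = 1 := congrArg Subtype.val hk
    have := hI.inner (K ⧸ center K) inferInstance hnc hform Ts (αhom b) k (by rw [← map_pow, hk', map_one])
      (fun y hy hyy => by
        rw [hTs] at hy
        obtain ⟨v, hv, rfl⟩ := hall y hy hyy
        rw [hα]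
        congr 1
        refine Subtype.ext ?_
        rw [hΦ, h.comm b hb _ (mem_subgroupOf.1 hv), mul_inv_cancel_right])
      (fun y hy => by
        rw [hTs] at hy ⊢
        obtain ⟨t, ht, rfl⟩ := hy
        have hd : t⁻¹ * Φ b t ∈ BK := by
          rw [hBK, mem_subgroupOf, Subgroup.coe_mul, Subgroup.coe_inv, hΦ]
          have h2 : (t : X)⁻¹ * b * (t : X) ∈ B := by
            have := (mem_normalizer_iff.1 (h.le_normalizer_sylow (inv_mem ((hT t).1 ht))) b).1 hb
            rwa [inv_inv] at this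
          have h3 := mul_mem h2 (inv_mem hb)
          simpa only [mul_assoc] using h3
        rw [hα, ← map_inv, ← map_mul]
        exact ⟨mem_map_of_mem q (hBT _ hd), hBsq _ (mem_map_of_mem q hd)⟩)
    rwa [hTs] at this
  -- the inducing elements
  have hcentre : ∀ x, (∀ y : K ⧸ center K, x * y * x⁻¹ = y) → x = 1 := by
    intro x hx
    have hmem : x ∈ center (K ⧸ center K) := mem_center_iff.2 fun y => by
      have := hx y
      rw [mul_inv_eq_iff_eq_mul] at this
      exact this.symm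
    rcases (inferInstance : (center (K ⧸ center K)).Normal).eq_bot_or_eq_top with e | e
    · rwa [e, mem_bot] at hmem
    · exact absurd (isMulCommutative_iff.2 fun a b => mem_center_iff.1 (e ▸ mem_top b) a) hnc
  let W : Subgroup (K ⧸ center K) :=
    { carrier := {x | x ∈ Tq ∧ ∃ b ∈ B, ∀ y, αhom b y = x * y * x⁻¹}
      one_mem' := ⟨one_mem _, 1, one_mem _, fun y => by rw [map_one]; simp⟩
      mul_mem' := by
        rintro x x' ⟨hx, b, hb, e⟩ ⟨hx', b', hb', e'⟩
        refine ⟨mul_mem hx hx', b * b', mul_mem hb hb', fun y => ?_⟩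
        rw [map_mul, MulAut.mul_apply, e', e]; group
      inv_mem' := by
        rintro x ⟨hx, b, hb, e⟩
        refine ⟨inv_mem hx, b⁻¹, inv_mem hb, fun y => (αhom b).injective ?_⟩
        rw [← MulAut.mul_apply, ← map_mul, mul_inv_cancel, map_one, MulAut.one_apply, e]
        group }
  have hW : ∀ x ∈ W, x * x = 1 := by
    refine exp_two hform Ts (by rw [hTs]; exact fun x hx => hx.1) ?_ ?_
    · rintro x ⟨-, b, hb, e⟩ x' ⟨-, b', hb', e'⟩
      refine mul_inv_eq_one.1 (hcentre _ fun y => ?_)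
      have h1 : ∀ y, αhom b (αhom b' y) = αhom b' (αhom b y) := fun y => by
        rw [← MulAut.mul_apply, ← MulAut.mul_apply, ← map_mul, ← map_mul, h.comm b hb b' hb']
      have h2 := h1 ((x' * x)⁻¹ * y * (x' * x))
      simp only [e, e'] at h2
      have e6 : x' * (x * ((x' * x)⁻¹ * y * (x' * x)) * x⁻¹) * x'⁻¹ = y := by group
      rw [e6] at h2
      rw [show x * x' * (x' * x)⁻¹ * y * (x * x' * (x' * x)⁻¹)⁻¹ =
        x * (x' * ((x' * x)⁻¹ * y * (x' * x)) * x'⁻¹) * x⁻¹ by group]
      exact h2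
    · rintro n hn x ⟨hx, b, hb, e⟩
      rw [hTs] at hn
      refine ⟨(mem_normalizer_iff.1 hn x).1 hx, ?_⟩
      obtain ⟨n, rfl⟩ := hqs n
      obtain ⟨t, ht, rfl⟩ := hx
      set c := (t : X)⁻¹ * b with hc
      -- conjugating by `n` keeps `b` in `P`
      have hnT : n ∈ normalizer ((T : Subgroup K) : Set K) := mem_normalizer_fintype fun a ha => by
        obtain ⟨w, hw, e1⟩ := (mem_normalizer_iff.1 hn (q a)).1 (mem_map_of_mem q ha)
        rw [← map_mul, ← map_inv, ← map_mul] at e1
        have h1 := hZT (QuotientGroup.eq.1 e1)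
        have h2 := mul_mem hw h1
        rwa [mul_inv_cancel_left] at h2
      have hcP : c ∈ (P : Subgroup X) := mul_mem (inv_mem ((hT t).1 ht)) (h.closed.1 hb)
      have hcz : ∀ k : K, q (Φ c k) = q k := fun k => by
        have h1 : αhom b (q k) = q t * q k * (q t)⁻¹ := e (q k)
        rw [hα, ← map_inv, ← map_mul, ← map_mul] at h1
        have h2 : Φ c k = t⁻¹ * Φ b k * t := Subtype.ext (by
          push_cast
          rw [hΦ, hΦ, hc]; group)
        rw [h2, map_mul, map_mul, h1, map_mul, map_mul, map_inv]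
        group
      have hcn : (n : X) * c * (n : X)⁻¹ ∈ (P : Subgroup X) := by
        have h1 := QuotientGroup.eq.1 (hcz n⁻¹).symm
        have h2 := (hT _).1 (hZT h1)
        rw [Subgroup.coe_mul, hΦ, Subgroup.coe_inv, Subgroup.coe_inv, inv_inv] at h2
        have h3 := mul_mem h2 hcP
        rwa [show (n : X) * (c * (n : X)⁻¹ * c⁻¹) * c = (n : X) * c * (n : X)⁻¹ by group] at h3
      have hbn : (n : X) * b * (n : X)⁻¹ ∈ B := by
        refine h.conj_mem hb ?_
        rw [show (n : X) * b * (n : X)⁻¹ = ((n * t * n⁻¹ : K) : X) * ((n : X) * c * (n : X)⁻¹) by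
          push_cast; rw [hc]; group]
        exact mul_mem ((hT _).1 ((mem_normalizer_iff.1 hnT t).1 ht)) hcn
      refine ⟨_, hbn, fun y => ?_⟩
      obtain ⟨k, rfl⟩ := hqs y
      have h1 : Φ ((n : X) * b * (n : X)⁻¹) k = n * Φ b (n⁻¹ * k * n) * n⁻¹ := Subtype.ext (by
        push_cast
        rw [hΦ, hΦ]
        push_cast
        group)
      rw [hα, h1, map_mul, map_mul, ← hα, e, map_mul, map_mul, map_inv]
      group
  intro b hb
  obtain ⟨x, hx, hxe⟩ := hinner b hb
  have hx2 := hW x ⟨hx, b, hb, hxe⟩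
  obtain ⟨v, hv, hvx⟩ := hall x hx hx2
  refine ⟨v, ⟨mem_subgroupOf.1 hv, v.2⟩, ?_⟩
  set c : X := (v : X)⁻¹ * b with hc
  have hbc : b * (v : X)⁻¹ = c := h.comm b hb _ (inv_mem (mem_subgroupOf.1 hv))
  rw [hbc]
  have h1 : ⁅zpowers c, K⁆ ≤ (center K).map K.subtype := by
    refine commutator_le.2 fun d hd k hk => ?_
    obtain ⟨i, rfl⟩ := mem_zpowers_iff.1 hd
    have hc1 : αhom c = 1 := MulEquiv.ext fun y => by
      obtain ⟨z, rfl⟩ := hqs y
      have h2 : Φ c z = v⁻¹ * Φ b z * v := Subtype.ext (by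
        push_cast
        rw [hΦ, hΦ, hc]; group)
      rw [hα, h2, map_mul, map_mul, ← hα, hxe, ← hvx, map_inv, MulAut.one_apply]
      group
    have h2 : q (Φ (c ^ i) ⟨k, hk⟩) = q ⟨k, hk⟩ := by
      rw [← hα, map_zpow, hc1, one_zpow, MulAut.one_apply]
    refine ⟨Φ (c ^ i) ⟨k, hk⟩ * (⟨k, hk⟩ : K)⁻¹, (QuotientGroup.eq_one_iff _).1 ?_, ?_⟩
    · show q _ = 1
      rw [map_mul, map_inv, h2, mul_inv_cancel]
    · show (Φ (c ^ i) ⟨k, hk⟩ : X) * k⁻¹ = _
      rw [hΦ, commutatorElement_def]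
  have h4 : ⁅zpowers c, K⁆ = ⊥ := by
    refine CfsgLib.Coprime.commutator_eq_bot_of_perfect (CfsgLib.Coprime.commutator_self_of_isComponent hK) ?_
    refine le_bot_iff.1 ((commutator_mono h1 le_rfl).trans (commutator_le.2 ?_))
    rintro _ ⟨z, hz, rfl⟩ k hk
    exact Subgroup.mem_bot.2 (commutatorElement_eq_one_iff_mul_comm.2
      (congrArg Subtype.val (mem_center_iff.1 hz ⟨k, hk⟩)).symm)
  exact (commutator_eq_bot_iff_le_centralizer.1 h4) (mem_zpowers c)

end CfsgLib.Gold.Struct
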