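import Cfsg.Agent.Lib.Goldschmidt.Consumers.Structure.Comp
import Cfsg.Agent.Lib.Coprime.Solvable
import Cfsg.Agent.Lib.LocalStructure.SubnormalJoin
import Cfsg.Prelude.Def_PLocal
import Mathlib.GroupTheory.NoncommPiCoprod

/-!
# The structure of a group generated by the conjugates of an abelian strongly closed `2`-subgroup

`X = E · O₂` with `O₂` central and contained in `B`, `B = O₂ · Ω₁(P)` and `E/Z(E)` is the product of the simple
quotients of the components.
-/

set_option autoImplicit false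
set_option linter.style.haveILetI false

namespace CfsgLib.Gold.Struct

open Subgroup
open scoped commutatorElement

universe u

variable {X : Type u} [Group X] [Finite X] {P : Sylow 2 X} {B : Subgroup X}

/-- A finite join of components. -/
def join (s : Finset (Subgroup X)) : Subgroup X := s.sup id

namespace Pre

theorem join_normal (h : Pre P B) (s : Finset (Subgroup X)) (hs : ∀ K ∈ s, Cfsg.IsComponent K) :
    (join s).Normal := by
  classical
  induction s using Finset.induction_on with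
  | empty => rw [join, Finset.sup_empty]; infer_instance
  | @insert K s hKs ih =>
    haveI : (id K : Subgroup X).Normal := h.component_normal (hs K (Finset.mem_insert_self _ _))
    haveI : (s.sup id).Normal := ih fun L hL => hs L (Finset.mem_insert_of_mem hL)
    rw [join, Finset.sup_insert]
    exact Subgroup.sup_normal _ _

theorem join_commute (s : Finset (Subgroup X)) (hs : ∀ K ∈ s, Cfsg.IsComponent K) {K : Subgroup X}
    (hK : Cfsg.IsComponent K) (hKs : K ∉ s) : join s ≤ centralizer (K : Set X) := by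
  refine Finset.sup_le fun L hL => ?_
  have hne : L ≠ K := fun e => hKs (e ▸ hL)
  exact commutator_eq_bot_iff_le_centralizer.1 (CfsgLib.Coprime.components_commute (hs L hL) hK hne)

theorem le_centralizer_layer {x : X}
    (hx : ∀ K : Subgroup X, Cfsg.IsComponent K → x ∈ centralizer (K : Set X)) :
    x ∈ centralizer (Cfsg.layer X : Set X) := by
  have h1 : Cfsg.layer X ≤ centralizer ({x} : Set X) := sSup_le fun K hK k hk =>
    mem_centralizer_singleton_iff.2 (mem_centralizer_iff.1 (hx K hK) k hk)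
  exact mem_centralizer_iff.2 fun e he => mem_centralizer_singleton_iff.1 (h1 he)

/-- `B` lies in the product of the components and their common centralizer. -/
theorem exists_decomp (h : Pre P B) (hI : Inputs.{u}) (s : Finset (Subgroup X))
    (hs : ∀ K ∈ s, Cfsg.IsComponent K) : ∀ b ∈ B, ∃ c ∈ B, b * c⁻¹ ∈ join s ∧
      ∀ K ∈ s, c ∈ centralizer (K : Set X) := by
  classical
  induction s using Finset.induction_on with
  | empty => exact fun b hb => ⟨b, hb, by rw [mul_inv_cancel]; exact one_mem _, by simp⟩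
  | @insert K s hKs ih =>
    intro b hb
    have hs' : ∀ L ∈ s, Cfsg.IsComponent L := fun L hL => hs L (Finset.mem_insert_of_mem hL)
    have hK := hs K (Finset.mem_insert_self _ _)
    obtain ⟨c, hc, hbc, hcs⟩ := ih hs' b hb
    obtain ⟨v, ⟨hvB, hvK⟩, hcv⟩ := (h.compSpec hI hK).split c hc
    refine ⟨c * v⁻¹, mul_mem hc (inv_mem hvB), ?_, fun L hL => ?_⟩
    · have e : b * (c * v⁻¹)⁻¹ = (b * v * b⁻¹) * (b * c⁻¹) := by
        rw [h.comm b hb v hvB, mul_inv_cancel_right, mul_inv_rev, inv_inv, ← mul_assoc, h.comm b hb v hvB,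
          mul_assoc]
      rw [e, join, Finset.sup_insert]
      refine mul_mem (mem_sup_left ?_) (mem_sup_right hbc)
      exact (h.component_normal hK).conj_mem v hvK b
    · rcases Finset.mem_insert.1 hL with rfl | hL'
      · exact hcv
      · refine mul_mem (hcs L hL') (inv_mem ?_)
        have hne : K ≠ L := fun e => hKs (e ▸ hL')
        exact commutator_eq_bot_iff_le_centralizer.1 (CfsgLib.Coprime.components_commute hK (hs' L hL') hne) hvK

/-- The centre of a component lies in `O₂`. -/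
theorem center_le_pCore (h : Pre P B) {K : Subgroup X} (hK : Cfsg.IsComponent K) {z : K}
    (hz : z ∈ center K) : (z : X) ∈ Cfsg.pCore 2 X := by
  haveI := Fact.mk Nat.prime_two
  exact CfsgLib.PGroup.iInf_sylow_le_pCore 2 (mem_iInf.2 fun P' => h.center_le_sylow hK hz P')

/-- Elements of `P` in a join of components with square centralizing them lie in `B` and in `O₂ Ω₁(P)`. -/
theorem mem_of_sq (h : Pre P B) (hI : Inputs.{u}) (s : Finset (Subgroup X))
    (hs : ∀ K ∈ s, Cfsg.IsComponent K) : ∀ x ∈ (P : Subgroup X) ⊓ join s,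
      (∀ K ∈ s, x * x ∈ centralizer (K : Set X)) →
        x ∈ B ∧ x ∈ Cfsg.pCore 2 X ⊔ Cfsg.omegaOne 2 (P : Subgroup X) := by
  classical
  haveI := Fact.mk Nat.prime_two
  induction s using Finset.induction_on with
  | empty =>
    intro x hx _
    have : x = 1 := by simpa [join] using hx.2
    rw [this]
    exact ⟨one_mem _, one_mem _⟩
  | @insert K s hKs ih =>
    intro x hx hxx
    have hs' : ∀ L ∈ s, Cfsg.IsComponent L := fun L hL => hs L (Finset.mem_insert_of_mem hL)
    have hK := hs K (Finset.mem_insert_self _ _)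
    haveI := h.component_normal hK
    haveI := h.join_normal s hs'
    have hx' : x ∈ (P : Subgroup X) ⊓ (K ⊔ join s) := by rwa [join, Finset.sup_insert] at hx
    rw [CfsgLib.LS.sylow_inf_sup P (Normal.isSubnormal inferInstance) (Normal.isSubnormal inferInstance),
      ← SetLike.mem_coe, coe_mul_of_left_le_normalizer_right] at hx'
    swap
    · intro g hg
      refine mem_normalizer_fintype fun y hy => ⟨(P : Subgroup X).mul_mem ((P : Subgroup X).mul_mem hg.1 hy.1) ((P : Subgroup X).inv_mem hg.1), ?_⟩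
      exact (inferInstance : (join s).Normal).conj_mem y hy.2 g
    obtain ⟨k, hk, e, he, rfl⟩ := hx'
    have hek : Commute e k := (mem_centralizer_iff.1 (join_commute s hs' hK hKs he.2) k hk.2).symm
    have hsq : k * e * (k * e) = k * k * (e * e) := by
      calc k * e * (k * e) = k * (e * k) * e := by group
        _ = k * (k * e) * e := by rw [hek.eq]
        _ = _ := by group
    have hecK : e * e ∈ centralizer (K : Set X) :=
      mul_mem (join_commute s hs' hK hKs he.2) (join_commute s hs' hK hKs he.2)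
    have hkc : (⟨k, hk.2⟩ : K) * ⟨k, hk.2⟩ ∈ center K := by
      have h1 := mul_mem (hxx K (Finset.mem_insert_self _ _)) (inv_mem hecK)
      rw [hsq, mul_inv_cancel_right] at h1
      exact mem_center_iff.2 fun w => Subtype.ext (mem_centralizer_iff.1 h1 w w.2)
    obtain ⟨hkB, z, hz, hzk⟩ := (h.compSpec hI hK).sq_mem ⟨k, hk.2⟩ hk.1 hkc
    have hkO : k ∈ Cfsg.pCore 2 X ⊔ Cfsg.omegaOne 2 (P : Subgroup X) := by
      have h1 : (z : X)⁻¹ * k ∈ Cfsg.omegaOne 2 (P : Subgroup X) := Subgroup.subset_closure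
        ⟨mul_mem (inv_mem (h.center_le_sylow hK hz P)) hk.1, by
          rw [sq]; exact congrArg Subtype.val hzk⟩
      have h2 := mul_mem (mem_sup_left (T := Cfsg.omegaOne 2 (P : Subgroup X)) (h.center_le_pCore hK hz))
        (mem_sup_right h1)
      rwa [mul_inv_cancel_left] at h2
    obtain ⟨heB, heO⟩ := ih hs' e he fun L hL => by
      have h1 : k * k ∈ centralizer (L : Set X) := by
        have hne : K ≠ L := fun e' => hKs (e' ▸ hL)
        have := commutator_eq_bot_iff_le_centralizer.1 (CfsgLib.Coprime.components_commute hK (hs' L hL) hne) hk.2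
        exact mul_mem this this
      have h2 := mul_mem (inv_mem h1) (hxx L (Finset.mem_insert_of_mem hL))
      rwa [hsq, inv_mul_cancel_left] at h2
    exact ⟨mul_mem hkB heB, mul_mem hkO heO⟩

set_option maxHeartbeats 1000000 in
/-- The structure theorem. -/
theorem structure_theorem (h : Pre P B) (hI : Inputs.{u}) :
    Cfsg.pCore 2 X ⊔ commutator X = ⊤ ∧ Cfsg.pCore 2 X ≤ Subgroup.center X ∧
      B = Cfsg.pCore 2 X ⊔ Cfsg.omegaOne 2 (P : Subgroup X) ∧ commutator X = Cfsg.layer X := by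
  classical
  haveI := Fact.mk Nat.prime_two
  set O := Cfsg.pCore 2 X with hOdef
  haveI hOn : O.Normal := CfsgLib.Coprime.pCore_normal' 2
  haveI hEn : (Cfsg.layer X).Normal := CfsgLib.Coprime.layer_normal
  set E := Cfsg.layer X with hEdef
  letI : Fintype (Subgroup X) := Fintype.ofFinite _
  set s := Finset.univ.filter fun K : Subgroup X => Cfsg.IsComponent K with hsdef
  have hs : ∀ K ∈ s, Cfsg.IsComponent K := fun K hK => (Finset.mem_filter.1 hK).2
  have hmem : ∀ K, Cfsg.IsComponent K → K ∈ s := fun K hK => Finset.mem_filter.2 ⟨Finset.mem_univ _, hK⟩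
  have hjoin : join s = E := le_antisymm
    (Finset.sup_le fun K hK => CfsgLib.Coprime.component_le_layer (hs K hK))
    (sSup_le fun K hK => Finset.le_sup (f := id) (hmem K hK))
  have hBP : B ≤ (P : Subgroup X) := h.closed.1
  have hOP : O ≤ (P : Subgroup X) := CfsgLib.PGroup.pCore_le_sylow P
  have hgen : ∀ N : Subgroup X, N.Normal → B ≤ N → N = ⊤ := fun N hN hle =>
    top_le_iff.1 (h.gen ▸ (haveI := hN; normalClosure_le_normal hle))
  -- `B ∩ O` is central, and `[O, X]` lies in it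
  set B₀ := B ⊓ O with hB₀
  haveI hB₀n : B₀.Normal := ⟨fun b hb g =>
    ⟨h.conj_mem hb.1 (hOP (hOn.conj_mem b hb.2 g)), hOn.conj_mem b hb.2 g⟩⟩
  have hB₀c : B₀ ≤ center X := by
    have h1 : centralizer (B₀ : Set X) = ⊤ := hgen _ inferInstance fun b hb =>
      mem_centralizer_iff.2 fun y hy => h.comm y hy.1 b hb
    exact fun y hy => mem_center_iff.2 fun g => (mem_centralizer_iff.1 (h1.ge (mem_top g)) y hy).symm
  let N : Subgroup X :=
    { carrier := {g | ∀ o ∈ O, g * o * g⁻¹ * o⁻¹ ∈ B₀}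
      one_mem' := fun o _ => by simp
      mul_mem' := fun {g g'} hg hg' o ho => by
        rw [show g * g' * o * (g * g')⁻¹ * o⁻¹ =
          g * (g' * o * g'⁻¹) * g⁻¹ * (g' * o * g'⁻¹)⁻¹ * (g' * o * g'⁻¹ * o⁻¹) by group]
        exact mul_mem (hg _ (hOn.conj_mem o ho g')) (hg' o ho)
      inv_mem' := fun {g} hg o ho => by
        rw [show g⁻¹ * o * g⁻¹⁻¹ * o⁻¹ = (g * (g⁻¹ * o * g) * g⁻¹ * (g⁻¹ * o * g)⁻¹)⁻¹ by group]
        exact inv_mem (hg _ (by simpa using hOn.conj_mem o ho g⁻¹)) }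
  have hN : N = ⊤ := by
    refine hgen N ⟨fun n hn g o ho => ?_⟩ fun b hb o ho => ?_
    · have h1 := hB₀n.conj_mem _ (hn (g⁻¹ * o * g) (by simpa using hOn.conj_mem o ho g⁻¹)) g
      rwa [show g * (n * (g⁻¹ * o * g) * n⁻¹ * (g⁻¹ * o * g)⁻¹) * g⁻¹ =
        g * n * g⁻¹ * o * (g * n * g⁻¹)⁻¹ * o⁻¹ by group] at h1
    · refine ⟨?_, O.mul_mem (hOn.conj_mem o ho b) (O.inv_mem ho)⟩
      have h1 : o * b⁻¹ * o⁻¹ ∈ B := (mem_normalizer_iff.1 (h.le_normalizer_sylow (hOP ho)) _).1 (inv_mem hb)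
      have h2 := mul_mem hb h1
      rwa [show b * (o * b⁻¹ * o⁻¹) = b * o * b⁻¹ * o⁻¹ by group] at h2
  -- the centralizer of the layer is `O`
  set C := centralizer (E : Set X) with hC
  have hOE : O ≤ C := by
    haveI := (CfsgLib.PGroup.isPGroup_pCore 2 X).isNilpotent
    haveI : Group.IsSolvable O := inferInstance
    rw [hC, le_centralizer_iff]
    exact commutator_eq_bot_iff_le_centralizer.1 (CfsgLib.Coprime.layer_commutator_solvable_eq_bot inferInstance
      (by rw [normalizer_eq_top]; exact le_top))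
  set D := centralizer (O : Set X) with hD
  have hCD : ∀ g : X, g ∈ C → g ∈ D → g ∈ O := by
    intro g hgC hgD
    have hF : Cfsg.fittingSubgroup X = O :=
      CfsgLib.Coprime.fitting_eq_pCore_of_pPrimeCore_eq_bot h.core
    have h1 : g ∈ centralizer (Cfsg.generalizedFittingSubgroup X : Set X) := by
      have hle : Cfsg.generalizedFittingSubgroup X ≤ centralizer ({g} : Set X) :=
        sup_le (fun e he => mem_centralizer_singleton_iff.2 (mem_centralizer_iff.1 hgC e he))
          (hF ▸ fun e he => mem_centralizer_singleton_iff.2 (mem_centralizer_iff.1 hgD e he))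
      exact mem_centralizer_iff.2 fun e he => mem_centralizer_singleton_iff.1 (hle he)
    have h2 : g ∈ Cfsg.generalizedFittingSubgroup X ⊓ C :=
      ⟨CfsgLib.Coprime.centralizer_generalizedFitting_le h1, hgC⟩
    rwa [hC, hEdef, CfsgLib.Coprime.generalizedFitting_inf_centralizer_layer, hF] at h2
  have hsqD : ∀ g : X, ∀ o ∈ O, ∃ z ∈ B₀, g * o * g⁻¹ = z * o := fun g o ho =>
    ⟨_, (hN.ge (mem_top g) : g ∈ N) o ho, by group⟩
  have hPD : ∀ g : X, ∃ k : ℕ, g ^ 2 ^ k ∈ D := by
    intro g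
    obtain ⟨k, hk⟩ := IsPGroup.iff_card.1 ((P.2).to_le (inf_le_left.trans hBP : B₀ ≤ (P : Subgroup X)))
    refine ⟨k, mem_centralizer_iff.2 fun o ho => ?_⟩
    obtain ⟨z, hz, e⟩ := hsqD g o ho
    have hiter : ∀ n : ℕ, g ^ n * o * (g ^ n)⁻¹ = z ^ n * o := by
      intro n
      induction n with
      | zero => simp
      | succ n ih =>
        rw [pow_succ', show g * g ^ n * o * (g * g ^ n)⁻¹ = g * (g ^ n * o * (g ^ n)⁻¹) * g⁻¹ by group, ih,
          show g * (z ^ n * o) * g⁻¹ = (g * z ^ n * g⁻¹) * (g * o * g⁻¹) by group, e,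
          mem_center_iff.1 (pow_mem (hB₀c hz) n) g, mul_inv_cancel_right, pow_succ, mul_assoc]
    have hz1 : z ^ 2 ^ k = 1 := by
      have h1 := Subgroup.orderOf_dvd_natCard B₀ hz
      rw [hk] at h1
      exact orderOf_dvd_iff_pow_eq_one.1 h1
    have h2 := hiter (2 ^ k)
    rw [hz1, one_mul, mul_inv_eq_iff_eq_mul] at h2
    exact h2.symm
  have hCO : C ≤ O := by
    haveI : C.Normal := inferInstance
    refine CfsgLib.PGroup.le_pCore inferInstance fun g => ?_
    obtain ⟨k, hk⟩ := hPD (g : X)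
    obtain ⟨j, hj⟩ := (CfsgLib.PGroup.isPGroup_pCore 2 X) ⟨_, hCD _ (pow_mem g.2 _) hk⟩
    refine ⟨k + j, Subtype.ext ?_⟩
    rw [pow_add, Subgroup.coe_pow, pow_mul]
    exact congrArg Subtype.val hj
  -- `X = E B₀`
  have hdec : ∀ b ∈ B, ∃ c ∈ B₀, b * c⁻¹ ∈ E := by
    intro b hb
    obtain ⟨c, hc, hbc, hcK⟩ := h.exists_decomp hI s hs b hb
    exact ⟨c, ⟨hc, hCO (le_centralizer_layer fun K hK => hcK K (hmem K hK))⟩, hjoin ▸ hbc⟩
  have htop : E ⊔ B₀ = ⊤ := hgen _ inferInstance fun b hb => by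
    obtain ⟨c, hc, hbc⟩ := hdec b hb
    have h1 := mul_mem (mem_sup_left (T := B₀) hbc) (mem_sup_right hc)
    rwa [inv_mul_cancel_right] at h1
  have hsplit : ∀ g : X, ∃ e ∈ E, ∃ c ∈ B₀, g = e * c := by
    intro g
    have h1 : g ∈ ((E ⊔ B₀ : Subgroup X) : Set X) := htop.ge (mem_top g)
    rw [mul_normal] at h1
    obtain ⟨e, he, c, hc, rfl⟩ := h1
    exact ⟨e, he, c, hc, rfl⟩
  have hder : commutator X = E := by
    refine le_antisymm ?_ ?_
    · rw [_root_.commutator_def, commutator_le]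
      intro g _ g' _
      obtain ⟨e, he, c, hc, rfl⟩ := hsplit g
      obtain ⟨e', he', c', hc', rfl⟩ := hsplit g'
      have h1 : ⁅e * c, e' * c'⁆ = ⁅e, e'⁆ := by
        have hc1 : ∀ w, c * w = w * c := fun w => (mem_center_iff.1 (hB₀c hc) w).symm
        have hc2 : ∀ w, c' * w = w * c' := fun w => (mem_center_iff.1 (hB₀c hc') w).symm
        rw [commutatorElement_def, commutatorElement_def]
        calc e * c * (e' * c') * (e * c)⁻¹ * (e' * c')⁻¹
            = e * (c * (e' * c' * c⁻¹ * e⁻¹)) * c'⁻¹ * e'⁻¹ := by group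
          _ = e * e' * (c' * (c⁻¹ * e⁻¹ * c)) * c'⁻¹ * e'⁻¹ := by rw [hc1]; group
          _ = e * e' * (c⁻¹ * e⁻¹ * c) * e'⁻¹ := by rw [hc2]; group
          _ = e * e' * e⁻¹ * e'⁻¹ := by rw [show c⁻¹ * e⁻¹ * c = e⁻¹ by rw [mul_assoc, ← hc1, inv_mul_cancel_left]]
      rw [h1]
      exact mul_mem (mul_mem (mul_mem he he') (inv_mem he)) (inv_mem he')
    · rw [hEdef, ← CfsgLib.Coprime.layer_isPerfect, _root_.commutator_def]
      exact commutator_mono le_top le_top
  -- `O ≤ B`
  have hOB : O ≤ B := by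
    intro o ho
    obtain ⟨e, he, c, hc, rfl⟩ := hsplit o
    have heO : e ∈ O := by
      have h1 := mul_mem ho (inv_mem hc.2)
      rwa [mul_inv_cancel_right] at h1
    refine mul_mem (h.mem_of_sq hI s hs e ⟨hOP heO, hjoin.ge he⟩ fun K hK => ?_).1 hc.1
    have h2 : e ∈ centralizer (K : Set X) := mem_centralizer_iff.2 fun k hk =>
      mem_centralizer_iff.1 (hOE heO) k (CfsgLib.Coprime.component_le_layer (hs K hK) hk)
    exact mul_mem h2 h2
  have hO₀ : O ≤ B₀ := le_inf hOB le_rfl
  refine ⟨?_, hO₀.trans hB₀c, le_antisymm ?_ (sup_le hOB ?_), hder⟩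
  · rw [hder, sup_comm]
    exact top_le_iff.1 (htop ▸ sup_le le_sup_left (inf_le_right.trans le_sup_right))
  · -- `B ≤ O Ω₁(P)`
    intro b hb
    obtain ⟨c, hc, hbc⟩ := hdec b hb
    set v := b * c⁻¹
    have hvB : v ∈ B := mul_mem hb (inv_mem hc.1)
    have h1 := (h.mem_of_sq hI s hs v ⟨hBP hvB, hjoin.ge hbc⟩ fun K hK => ?_).2
    · have h2 := mul_mem h1 (mem_sup_left hc.2)
      rwa [inv_mul_cancel_right] at h2
    obtain ⟨w, ⟨hwB, hwK⟩, hvw⟩ := (h.compSpec hI (hs K hK)).split v hvB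
    have hw2 : w * w ∈ centralizer (K : Set X) := mem_centralizer_iff.2 fun k hk =>
      congrArg Subtype.val (mem_center_iff.1 ((h.compSpec hI (hs K hK)).sq_central ⟨w, hwK⟩ hwB) ⟨k, hk⟩)
    have e1 : v * v = (v * w⁻¹) * (v * w⁻¹) * (w * w) := by
      have hcm : Commute w⁻¹ v := h.comm _ (inv_mem hwB) _ hvB
      calc v * v = v * v * (w⁻¹ * w⁻¹) * (w * w) := by group
        _ = v * (v * w⁻¹) * w⁻¹ * (w * w) := by group
        _ = v * (w⁻¹ * v) * w⁻¹ * (w * w) := by rw [hcm.eq]
        _ = _ := by group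
    rw [e1]
    exact mul_mem (mul_mem hvw hvw) hw2
  · -- involutions of `P` lie in `B`
    refine (closure_le _).2 ?_
    rintro t ⟨htP, ht2⟩
    obtain ⟨e, he, c, hc, rfl⟩ := hsplit t
    have heP : e ∈ (P : Subgroup X) := by
      have h1 := mul_mem htP (inv_mem (hBP hc.1))
      rwa [mul_inv_cancel_right] at h1
    refine mul_mem (h.mem_of_sq hI s hs e ⟨heP, hjoin.ge he⟩ fun K hK => ?_).1 hc.1
    have hcc : Commute e c := mem_center_iff.1 (hB₀c hc) e
    have e2 : e * e = (c * c)⁻¹ := by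
      refine eq_inv_of_mul_eq_one_left ?_
      rw [sq] at ht2
      calc e * e * (c * c) = e * (e * c) * c := by group
        _ = e * (c * e) * c := by rw [hcc.eq]
        _ = e * c * (e * c) := by group
        _ = 1 := ht2
    rw [e2]
    exact inv_mem (mem_centralizer_iff.2 fun k _ => mem_center_iff.1 (mul_mem (hB₀c hc) (hB₀c hc)) k)

set_option maxHeartbeats 1000000 in
/-- The layer modulo its centre. -/
theorem layer_product (h : Pre P B) (hI : Inputs.{u}) :
    ∃ (ι : Type) (_ : Fintype ι) (L : ι → Type u) (_ : ∀ i, Group (L i)),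
      (∀ i, IsSimpleGroup (L i) ∧ ¬ IsMulCommutative (L i) ∧ Cfsg.IsGoldschmidtGroup (L i)) ∧
        Nonempty (↥(commutator X) ⧸ Subgroup.center ↥(commutator X) ≃* ((i : ι) → L i)) := by
  classical
  obtain ⟨n, ⟨g⟩⟩ := Finite.exists_equiv_fin {K : Subgroup X // Cfsg.IsComponent K}
  let Kc : Fin n → Subgroup X := fun i => (g.symm i).1
  have hKc : ∀ i, Cfsg.IsComponent (Kc i) := fun i => (g.symm i).2
  have hKinj : Function.Injective Kc := fun i j e => g.symm.injective (Subtype.ext e)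
  refine ⟨Fin n, inferInstance, fun i => Kc i ⧸ center (Kc i), inferInstance, fun i =>
    ⟨(h.compSpec hI (hKc i)).simple, (h.compSpec hI (hKc i)).noncomm, (h.compSpec hI (hKc i)).goldschmidt⟩, ?_⟩
  have hder : commutator X = Cfsg.layer X := (h.structure_theorem hI).2.2.2
  have hle : ∀ i, Kc i ≤ commutator X := fun i => hder ▸ CfsgLib.Coprime.component_le_layer (hKc i)
  have hc : Pairwise fun i j => ∀ (x : Kc i) (y : Kc j),
      Commute (Subgroup.inclusion (hle i) x) (Subgroup.inclusion (hle j) y) := fun i j hij x y =>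
    Subtype.ext (CfsgLib.Coprime.commutator_eq_bot_iff_forall.1
      (CfsgLib.Coprime.components_commute (hKc i) (hKc j) fun e => hij (hKinj e)) x x.2 y y.2)
  let Φ : ((i : Fin n) → Kc i) →* ↥(commutator X) :=
    MonoidHom.noncommPiCoprod (fun i => Subgroup.inclusion (hle i)) hc
  have hrange : Φ.range = ⊤ := by
    rw [MonoidHom.noncommPiCoprod_range]
    refine top_le_iff.1 fun x _ => ?_
    have hsup : commutator X ≤ (⨆ i, (Subgroup.inclusion (hle i)).range).map (commutator X).subtype := by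
      refine hder.le.trans (sSup_le fun K hK => ?_)
      obtain ⟨i, hi⟩ : ∃ i, Kc i = K := ⟨g ⟨K, hK⟩, by simp [Kc]⟩
      intro k hk
      rw [← hi] at hk
      exact ⟨⟨k, hle i hk⟩, Subgroup.mem_iSup_of_mem i ⟨⟨k, hk⟩, rfl⟩, rfl⟩
    obtain ⟨y, hy, e⟩ := hsup x.2
    rwa [← Subtype.ext (e : (y : X) = x)]
  let Ψ : ((i : Fin n) → Kc i) →* ↥(commutator X) ⧸ Subgroup.center ↥(commutator X) :=
    (QuotientGroup.mk' _).comp Φ
  let pr : ((i : Fin n) → Kc i) →* ((i : Fin n) → Kc i ⧸ center (Kc i)) :=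
    MonoidHom.mk' (fun f i => QuotientGroup.mk (f i)) fun f f' => rfl
  have hΨ : Function.Surjective Ψ :=
    (QuotientGroup.mk'_surjective _).comp (MonoidHom.range_eq_top.1 hrange)
  have hpr : Function.Surjective pr := fun f => by
    choose y hy using fun i => QuotientGroup.mk_surjective (f i)
    exact ⟨y, funext hy⟩
  have hker : Ψ.ker = pr.ker := by
    haveI hn : ∀ j, (Kc j).Normal := fun j => h.component_normal (hKc j)
    ext f
    rw [MonoidHom.mem_ker, MonoidHom.mem_ker]
    have hactj : ∀ (f : (i : Fin n) → Kc i) (j : Fin n) (k : Kc j),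
        ((Φ f : ↥(commutator X)) : X) * k * ((Φ f : ↥(commutator X)) : X)⁻¹ = ((f j : X)) * k * (f j : X)⁻¹ := by
      intro f j k
      let a₁ : ((i : Fin n) → Kc i) →* MulAut (Kc j) :=
        (MulAut.conjNormal (H := Kc j)).comp ((commutator X).subtype.comp Φ)
      let a₂ : ((i : Fin n) → Kc i) →* MulAut (Kc j) :=
        ((MulAut.conjNormal (H := Kc j)).comp (Kc j).subtype).comp (Pi.evalMonoidHom _ j)
      have heq : a₁ = a₂ := by
        refine MonoidHom.pi_ext fun i x => MulEquiv.ext fun k => Subtype.ext ?_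
        show (MulAut.conjNormal ((Φ (Pi.mulSingle i x) : ↥(commutator X)) : X) k : X) =
          (MulAut.conjNormal ((Pi.mulSingle i x : (i : Fin n) → Kc i) j : X) k : X)
        rw [MonoidHom.noncommPiCoprod_mulSingle, MulAut.conjNormal_apply, MulAut.conjNormal_apply]
        by_cases hij : i = j
        · subst hij; rw [Pi.mulSingle_eq_same]; rfl
        · rw [Pi.mulSingle_eq_of_ne (fun e => hij e.symm)]
          show (x : X) * k * (x : X)⁻¹ = (1 : X) * k * (1 : X)⁻¹
          rw [CfsgLib.Coprime.commutator_eq_bot_iff_forall.1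
            (CfsgLib.Coprime.components_commute (hKc i) (hKc j) fun e => hij (hKinj e)) x x.2 k k.2]
          group
      have h1 := congrArg (fun φ : MulAut (Kc j) => (φ k : X)) (DFunLike.congr_fun heq f)
      simpa [a₁, a₂, MulAut.conjNormal_apply] using h1
    constructor
    · intro hf
      funext j
      refine (QuotientGroup.eq_one_iff _).2 (mem_center_iff.2 fun k => Subtype.ext ?_)
      have h1 := mem_center_iff.1 ((QuotientGroup.eq_one_iff _).1 hf) ⟨k, hle j k.2⟩
      have h2 : (k : X) * (Φ f : ↥(commutator X)) = (Φ f : ↥(commutator X)) * k := congrArg Subtype.val h1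
      have h3 := hactj f j k
      rw [← h2, mul_inv_cancel_right] at h3
      show (k : X) * f j = f j * k
      exact mul_inv_eq_iff_eq_mul.1 h3.symm |>.symm
    · intro hf
      refine (QuotientGroup.eq_one_iff _).2 (mem_center_iff.2 fun x => Subtype.ext ?_)
      have hall : Cfsg.layer X ≤ centralizer ({((Φ f : ↥(commutator X)) : X)} : Set X) := by
        refine sSup_le fun K hK => ?_
        obtain ⟨i, hi⟩ : ∃ i, Kc i = K := ⟨g ⟨K, hK⟩, by simp [Kc]⟩
        intro k hk
        rw [← hi] at hk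
        refine mem_centralizer_singleton_iff.2 ?_
        have h3 := hactj f i ⟨k, hk⟩
        have h4 := congrArg Subtype.val (mem_center_iff.1 ((QuotientGroup.eq_one_iff _).1 (congrFun hf i)) ⟨k, hk⟩)
        have h4' : k * (f i : X) = (f i : X) * k := h4
        rw [← h4', mul_inv_cancel_right] at h3
        exact (mul_inv_eq_iff_eq_mul.1 h3).symm
      exact mem_centralizer_singleton_iff.1 (hall (hder ▸ x.2))
  exact ⟨((QuotientGroup.quotientKerEquivOfSurjective Ψ hΨ).symm.trans
    (QuotientGroup.quotientMulEquivOfEq hker)).trans (QuotientGroup.quotientKerEquivOfSurjective pr hpr)⟩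

end Pre

/-- The structure theorem for strongly closed abelian `2`-subgroups, given the simple case. -/
theorem S2775_of {G : Type u} [Group G] [Finite G] (hI : Inputs.{u}) (S : Sylow 2 G) (A : Subgroup G)
    (hA : IsMulCommutative ↥A) (hsc : Cfsg.IsStronglyClosed A (S : Subgroup G)) (K : Subgroup G)
    (hK : K = Subgroup.normalClosure (A : Set G)) (Q : Type u) [Group Q] (π : ↥K →* Q)
    (hπ : Function.Surjective π) (hker : π.ker = Cfsg.pPrimeCore 2 ↥K) :
    Cfsg.pCore 2 Q ⊔ commutator Q = ⊤ ∧ Cfsg.pCore 2 Q ≤ Subgroup.center Q ∧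
      (∃ T : Sylow 2 Q, (A.subgroupOf K).map π ≤ (T : Subgroup Q) ∧
        (A.subgroupOf K).map π = Cfsg.pCore 2 Q ⊔ Cfsg.omegaOne 2 (T : Subgroup Q)) ∧
      ∃ (ι : Type) (_ : Fintype ι) (L : ι → Type u) (_ : ∀ i, Group (L i)),
        (∀ i, IsSimpleGroup (L i) ∧ ¬ IsMulCommutative (L i) ∧ Cfsg.IsGoldschmidtGroup (L i)) ∧
          Nonempty (↥(commutator Q) ⧸ Subgroup.center ↥(commutator Q) ≃* ((i : ι) → L i)) := by
  haveI := Fact.mk Nat.prime_two
  haveI : Finite Q := Finite.of_surjective π hπ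
  have hKn : K.Normal := hK ▸ normalClosure_normal
  haveI := hKn
  have hAK : A ≤ K := hK ▸ le_normalClosure
  obtain ⟨T, hT⟩ := CfsgLib.LS.sylow_inf_subnormal S (Normal.isSubnormal hKn)
  have hTmem : ∀ x : K, x ∈ (T : Subgroup K) ↔ (x : G) ∈ (S : Subgroup G) := fun x =>
    ⟨fun hx => (hT ▸ mem_map_of_mem K.subtype hx : (x : G) ∈ (S : Subgroup G) ⊓ K).1, fun hx => by
      obtain ⟨y, hy, e⟩ := hT.ge (show (x : G) ∈ (S : Subgroup G) ⊓ K from ⟨hx, x.2⟩)
      rwa [← Subtype.ext (e : (y : G) = x)]⟩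
  have hscK : Cfsg.IsStronglyClosed (A.subgroupOf K) (T : Subgroup K) :=
    ⟨fun a ha => (hTmem a).2 (hsc.1 ha), fun a ha g hg => hsc.2 (a : G) ha g ((hTmem _).1 hg)⟩
  -- `K` is generated by the `K`-conjugates of `A`
  have hgenK : normalClosure ((A.subgroupOf K : Subgroup K) : Set K) = ⊤ := by
    set N := (normalClosure ((A.subgroupOf K : Subgroup K) : Set K)).map K.subtype with hN
    suffices hle : K ≤ N by
      refine top_le_iff.1 fun x _ => ?_
      obtain ⟨y, hy, e⟩ := hle x.2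
      rwa [← Subtype.ext (e : (y : G) = x)]
    rw [hK, normalClosure, closure_le]
    intro x hx
    obtain ⟨a, ha, hc⟩ := Group.mem_conjugatesOfSet_iff.1 hx
    obtain ⟨g, rfl⟩ := isConj_iff.1 hc
    -- Frattini
    obtain ⟨k, hk⟩ := MulAction.exists_smul_eq K (MulAut.conjNormal (H := K) g • T) T
    have hgk : ∀ y ∈ A, (k : G) * g * y * ((k : G) * g)⁻¹ ∈ A := fun y hy => by
      refine hsc.2 y hy _ ?_
      have h1 : MulAut.conjNormal (H := K) g ⟨y, hAK hy⟩ ∈ ((MulAut.conjNormal (H := K) g • T : Sylow 2 K) : Subgroup K) :=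
        ⟨⟨y, hAK hy⟩, (hTmem _).2 (hsc.1 hy), rfl⟩
      have h2 : MulAut.conj k (MulAut.conjNormal (H := K) g ⟨y, hAK hy⟩) ∈ (T : Subgroup K) :=
        Eq.subst (motive := fun R : Sylow 2 K => MulAut.conj k (MulAut.conjNormal (H := K) g ⟨y, hAK hy⟩) ∈ (R : Subgroup K))
          hk (by rw [Sylow.coe_subgroup_smul]; exact ⟨_, h1, rfl⟩)
      have h3 := (hTmem _).1 h2
      rw [show (k : G) * g * y * ((k : G) * g)⁻¹ = (k : G) * (g * y * g⁻¹) * (k : G)⁻¹ by group]
      simpa [MulAut.conjNormal_apply] using h3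
    refine ⟨k⁻¹ * ⟨(k : G) * g * a * ((k : G) * g)⁻¹, hAK (hgk a ha)⟩ * k⁻¹⁻¹, ?_, ?_⟩
    · exact (normalClosure_normal : (normalClosure ((A.subgroupOf K : Subgroup K) : Set K)).Normal).conj_mem _ (subset_normalClosure (mem_subgroupOf.2 (hgk a ha))) _
    · show (k : G)⁻¹ * ((k : G) * g * a * ((k : G) * g)⁻¹) * ((k : G)⁻¹)⁻¹ = g * a * g⁻¹
      group
  -- in `Q`
  let TQ : Sylow 2 Q := T.mapSurjective hπ
  have hTQ : (TQ : Subgroup Q) = (T : Subgroup K).map π := Sylow.coe_mapSurjective hπ T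
  let φ : (↥K ⧸ π.ker) ≃* Q := QuotientGroup.quotientKerEquivOfSurjective π hπ
  set BQ := (A.subgroupOf K).map π with hBQ
  have hscQ : Cfsg.IsStronglyClosed BQ (TQ : Subgroup Q) := by
    obtain ⟨h1, h2⟩ := Cfsg.Agent.S1250.result T _ hscK π.ker
    rw [hTQ]
    refine ⟨map_mono hscK.1, ?_⟩
    rintro _ ⟨a, ha, rfl⟩ y hy
    obtain ⟨g, rfl⟩ := hπ y
    obtain ⟨t, ht, e⟩ := hy
    rw [← map_inv, ← map_mul, ← map_mul] at e ⊢
    have hmk : QuotientGroup.mk' π.ker t = QuotientGroup.mk' π.ker (g * a * g⁻¹) :=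
      φ.injective (e : φ (QuotientGroup.mk t) = φ (QuotientGroup.mk (g * a * g⁻¹)))
    obtain ⟨a', ha', e'⟩ := h2 _ (mem_map_of_mem _ ha) (QuotientGroup.mk' π.ker g) (by
      rw [← map_inv, ← map_mul, ← map_mul, ← hmk]
      exact mem_map_of_mem _ ht)
    refine ⟨a', ha', ?_⟩
    rw [← map_inv, ← map_mul, ← map_mul] at e'
    exact congrArg φ e'
  have hpre : Pre TQ BQ := by
    refine ⟨?_, ?_, hscQ, ?_⟩
    · have h1 : Cfsg.pPrimeCore 2 (↥K ⧸ π.ker) = ⊥ := by
        rw [← CfsgLib.Coprime.map_pPrimeCore_equiv (QuotientGroup.quotientMulEquivOfEq hker.symm),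
          CfsgLib.Coprime.pPrimeCore_quotient_eq_bot Nat.prime_two, Subgroup.map_bot]
      rw [← CfsgLib.Coprime.map_pPrimeCore_equiv φ, h1, Subgroup.map_bot]
    · rintro _ ⟨a, ha, rfl⟩ _ ⟨b, hb, rfl⟩
      rw [← map_mul, ← map_mul, show a * b = b * a from Subtype.ext
        (congrArg (fun t : A => (t : G)) (isMulCommutative_iff.1 hA ⟨(a : G), ha⟩ ⟨(b : G), hb⟩))]
    · rw [hBQ, coe_map, ← map_normalClosure _ π hπ, hgenK, map_top_of_surjective π hπ]
  obtain ⟨h1, h2, h3, -⟩ := hpre.structure_theorem hI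
  exact ⟨h1, h2, ⟨TQ, hscQ.1, h3⟩, hpre.layer_product hI⟩

end CfsgLib.Gold.Struct
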