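import Cfsg.Agent.Lib.Goldschmidt.Comp.Loc
import Cfsg.Agent.Lib.PGroup.Basic

/-!
# A group without odd core generated by the conjugates of an abelian strongly closed `2`-subgroup

Every component is normal and is not centralized by the subgroup, and meets it outside its centre.
-/

set_option autoImplicit false
set_option linter.style.haveILetI false

namespace CfsgLib.Gold.Struct

open Subgroup
open scoped commutatorElement

universe u

/-- A group without odd core, generated by the conjugates of `B`, abelian and strongly closed in `P`. -/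
structure Pre {X : Type u} [Group X] (P : Sylow 2 X) (B : Subgroup X) : Prop where
  core : Cfsg.pPrimeCore 2 X = ⊥
  comm : ∀ a ∈ B, ∀ b ∈ B, a * b = b * a
  closed : Cfsg.IsStronglyClosed B (P : Subgroup X)
  gen : normalClosure (B : Set X) = ⊤

variable {X : Type u} [Group X] [Finite X] {P : Sylow 2 X} {B : Subgroup X}

namespace Pre

theorem le_normalizer_sylow (h : Pre P B) : (P : Subgroup X) ≤ normalizer (B : Set X) :=
  haveI := Fact.mk Nat.prime_two
  CfsgLib.SECrit.sylow_le_normalizer_of_stronglyClosed P h.closed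

theorem conj_mem (h : Pre P B) {b g : X} (hb : b ∈ B) (hg : g * b * g⁻¹ ∈ (P : Subgroup X)) :
    g * b * g⁻¹ ∈ B :=
  h.closed.2 b hb g hg

/-- A central subgroup of a component is a `2`-group. -/
theorem center_le_sylow (h : Pre P B) {K : Subgroup X} (hK : Cfsg.IsComponent K) {z : K}
    (hz : z ∈ center K) (P' : Sylow 2 X) : (z : X) ∈ (P' : Subgroup X) := by
  haveI := Fact.mk Nat.prime_two
  set Z := (center K).map K.subtype
  have hsn : Z.IsSubnormal :=
    (CfsgLib.Coprime.isSubnormal_map_subtype_iff hK.1 _).2 (Normal.isSubnormal inferInstance)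
  refine CfsgLib.Coprime.pCore_le_sylow P'
    (CfsgLib.Coprime.le_pCore_of_isSubnormal hsn (fun x => ?_) (mem_map_of_mem K.subtype hz))
  obtain ⟨k, m, hm, hkm⟩ := Nat.exists_eq_two_pow_mul_odd (orderOf_pos x).ne'
  refine ⟨k, ?_⟩
  by_contra hne
  set w := x ^ 2 ^ k with hw
  have hwm : w ^ m = 1 := by rw [hw, ← pow_mul, ← hkm, pow_orderOf_eq_one]
  have hsub : ((zpowers w).map Z.subtype).IsSubnormal := by
    refine (CfsgLib.Coprime.isSubnormal_map_subtype_iff hsn _).2 (Normal.isSubnormal ⟨fun a ha g => ?_⟩)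
    have hc : IsMulCommutative Z := by
      refine isMulCommutative_iff.2 fun a b => Subtype.ext ?_
      obtain ⟨a', ha', ea⟩ := a.2
      obtain ⟨b', -, eb⟩ := b.2
      show (a : X) * b = b * a
      rw [← ea, ← eb]
      exact congrArg Subtype.val (mem_center_iff.1 ha' b').symm
    rwa [isMulCommutative_iff.1 hc g a, mul_inv_cancel_right]
  have hcop : (Nat.card ((zpowers w).map Z.subtype)).Coprime 2 := by
    rw [card_map_of_injective Z.subtype_injective, Nat.card_zpowers]
    exact Nat.Coprime.coprime_dvd_left (orderOf_dvd_of_pow_eq_one hwm) (Nat.coprime_two_right.2 hm)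
  have h1 := CfsgLib.Coprime.le_pPrimeCore_of_isSubnormal Nat.prime_two hsub hcop
    (mem_map_of_mem Z.subtype (mem_zpowers w))
  rw [h.core, Subgroup.mem_bot] at h1
  exact hne (Subtype.ext h1)

theorem sylowK (h : Pre P B) {K : Subgroup X} (hK : Cfsg.IsComponent K) :
    ∃ T : Sylow 2 K, (∀ x : K, x ∈ (T : Subgroup K) ↔ (x : X) ∈ (P : Subgroup X)) ∧
      2 ∣ Nat.card (T : Subgroup K) := by
  haveI := Fact.mk Nat.prime_two
  obtain ⟨T, hT⟩ := CfsgLib.LS.sylow_inf_subnormal P hK.1
  refine ⟨T, fun x => ⟨fun hx => ?_, fun hx => ?_⟩,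
    T.dvd_card_of_dvd_card (CfsgLib.Coprime.dvd_card_of_isComponent h.core hK)⟩
  · exact (hT ▸ mem_map_of_mem K.subtype hx : (x : X) ∈ (P : Subgroup X) ⊓ K).1
  · obtain ⟨y, hy, e⟩ := hT.ge (show (x : X) ∈ (P : Subgroup X) ⊓ K from ⟨hx, x.2⟩)
    rwa [← Subtype.ext (e : (y : X) = x)]

/-- The strongly closed subgroup normalizes every component. -/
theorem normalizes (h : Pre P B) {K : Subgroup X} (hK : Cfsg.IsComponent K) :
    B ≤ normalizer (K : Set X) := by
  haveI := Fact.mk Nat.prime_two
  intro b hb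
  rw [← CfsgLib.Coprime.conjBy_eq_self_iff]
  by_contra hne
  have hK' : Cfsg.IsComponent (CfsgLib.Coprime.conjBy b K) :=
    CfsgLib.Coprime.isComponent_map_equiv (MulAut.conj b) hK
  have hc := CfsgLib.Coprime.commutator_eq_bot_iff_forall.1
    (CfsgLib.Coprime.components_commute hK' hK hne)
  obtain ⟨T, hT, hT2⟩ := h.sylowK hK
  -- the normalizer of `T` centralizes `T` modulo the centre
  have key : ∀ n : K, n ∈ normalizer ((T : Subgroup K) : Set K) → ∀ t ∈ (T : Subgroup K),
      t⁻¹ * (n * t * n⁻¹) ∈ center K := by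
    intro n hn t ht
    set t₂ : K := n * t * n⁻¹ with ht₂
    have ht₂T : t₂ ∈ (T : Subgroup K) := (mem_normalizer_iff.1 hn t).1 ht
    set t' : X := b * (t : X) * b⁻¹ with ht'
    have ht'K : t' ∈ CfsgLib.Coprime.conjBy b K := by
      refine CfsgLib.Coprime.mem_conjBy.2 ?_
      rw [ht', show b⁻¹ * (b * (t : X) * b⁻¹) * b = (t : X) by group]
      exact t.2
    have htP := (hT t).1 ht
    have hbP := h.closed.1 hb
    have hu : (t : X)⁻¹ * t' ∈ B := by
      have h1 : (t : X)⁻¹ * b * (t : X) ∈ B := by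
        have := (mem_normalizer_iff.1 (h.le_normalizer_sylow (inv_mem htP)) b).1 hb
        rwa [inv_inv] at this
      have h2 := mul_mem h1 (inv_mem hb)
      rwa [show (t : X)⁻¹ * b * (t : X) * b⁻¹ = (t : X)⁻¹ * t' by rw [ht']; group] at h2
    have hnc : ∀ w ∈ CfsgLib.Coprime.conjBy b K, (n : X) * w * (n : X)⁻¹ = w := fun w hw => by
      rw [← hc w hw n n.2, mul_inv_cancel_right]
    have hconj : (n : X) * ((t : X)⁻¹ * t') * (n : X)⁻¹ = (t₂ : X)⁻¹ * t' := by
      calc (n : X) * ((t : X)⁻¹ * t') * (n : X)⁻¹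
          = ((n : X) * (t : X)⁻¹ * (n : X)⁻¹) * ((n : X) * t' * (n : X)⁻¹) := by group
        _ = (t₂ : X)⁻¹ * t' := by rw [hnc t' ht'K, ht₂]; push_cast; group
    have hu₂ : (t₂ : X)⁻¹ * t' ∈ B := hconj ▸ h.conj_mem hu (by
      rw [hconj]
      exact mul_mem (inv_mem ((hT t₂).1 ht₂T)) (mul_mem (mul_mem hbP htP) (inv_mem hbP)))
    have hd : (t : X)⁻¹ * (t₂ : X) ∈ B := by
      have h3 := mul_mem hu (inv_mem hu₂)
      rwa [show (t : X)⁻¹ * t' * ((t₂ : X)⁻¹ * t')⁻¹ = (t : X)⁻¹ * (t₂ : X) by group] at h3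
    have hdK' : (t : X)⁻¹ * (t₂ : X) ∈ CfsgLib.Coprime.conjBy b K := by
      refine CfsgLib.Coprime.mem_conjBy.2 ?_
      rw [show b⁻¹ * ((t : X)⁻¹ * (t₂ : X)) * b = (t : X)⁻¹ * (t₂ : X) by
        rw [mul_assoc, ← h.comm _ hb _ hd, inv_mul_cancel_left]]
      exact mul_mem (inv_mem t.2) t₂.2
    exact mem_center_iff.2 fun k => Subtype.ext (hc _ hdK' k k.2).symm
  -- so the simple quotient has a normal `2`-complement
  haveI := hK.2.2
  set q := QuotientGroup.mk' (center K)
  have hqs : Function.Surjective q := QuotientGroup.mk'_surjective _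
  set Tq := T.mapSurjective hqs
  have hZT : center K ≤ (T : Subgroup K) := fun z hz => (hT z).2 (h.center_le_sylow hK hz P)
  have hTq : (Tq : Subgroup (K ⧸ center K)) = (T : Subgroup K).map q := Sylow.coe_mapSurjective hqs T
  have hcen : normalizer ((Tq : Subgroup (K ⧸ center K)) : Set (K ⧸ center K)) ≤
      centralizer ((Tq : Subgroup (K ⧸ center K)) : Set (K ⧸ center K)) := by
    intro g hg
    obtain ⟨n, rfl⟩ := hqs g
    refine mem_centralizer_iff.2 fun x hx => ?_
    rw [hTq] at hg hx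
    obtain ⟨t, ht, rfl⟩ := hx
    have hnT : n ∈ normalizer ((T : Subgroup K) : Set K) := mem_normalizer_fintype fun a ha => by
      obtain ⟨w, hw, e⟩ := (mem_normalizer_iff.1 hg (q a)).1 (mem_map_of_mem q ha)
      rw [← map_mul, ← map_inv, ← map_mul] at e
      have h1 := hZT ((QuotientGroup.eq.1 e : w⁻¹ * (n * a * n⁻¹) ∈ center K))
      have h2 := mul_mem hw h1
      rwa [mul_inv_cancel_left] at h2
    have h1 : q (t⁻¹ * (n * t * n⁻¹)) = 1 := (QuotientGroup.eq_one_iff _).2 (key n hnT t ht)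
    rw [map_mul, map_inv, inv_mul_eq_one, map_mul, map_mul, map_inv, eq_mul_inv_iff_mul_eq] at h1
    exact h1
  set τ := MonoidHom.transferSylow Tq hcen
  have hcompl := MonoidHom.ker_transferSylow_isComplement' Tq hcen
  rcases (inferInstance : τ.ker.Normal).eq_bot_or_eq_top with e | e
  · have hTtop : (Tq : Subgroup (K ⧸ center K)) = ⊤ := by
      have := hcompl.sup_eq_top
      rwa [e, bot_sup_eq] at this
    refine CfsgLib.Coprime.center_ne_top_of_isQuasisimple hK.2 (top_unique fun x _ => ?_)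
    have hab : ∀ a b : K ⧸ center K, a * b = b * a := fun a b => by
      have ha : a ∈ centralizer ((Tq : Subgroup (K ⧸ center K)) : Set (K ⧸ center K)) :=
        hcen (le_normalizer (hTtop.ge (mem_top a)))
      exact (mem_centralizer_iff.1 ha b (hTtop.ge (mem_top b))).symm
    have hperf : commutator K ≤ center K := commutator_le.2 fun a _ b _ => by
      rw [← QuotientGroup.eq_one_iff]
      show q ⁅a, b⁆ = 1
      rw [map_commutatorElement, commutatorElement_eq_one_iff_mul_comm]
      exact hab _ _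
    haveI := hK.2.1
    exact hperf ((Group.IsPerfect.commutator_eq_top (G := K)).ge (mem_top x))
  · have h2 : (Tq : Subgroup (K ⧸ center K)) = ⊥ := by
      have := hcompl.disjoint
      rwa [e, disjoint_iff, top_inf_eq] at this
    rw [hTq, Subgroup.map_eq_bot_iff, QuotientGroup.ker_mk'] at h2
    obtain ⟨t, ht⟩ := exists_prime_orderOf_dvd_card' (G := (T : Subgroup K)) 2 hT2
    -- `T` is central, hence so is a Sylow subgroup of the simple quotient
    have hle : (T : Subgroup K) = center K := le_antisymm h2 hZT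
    have hodd : ¬ 2 ∣ Nat.card (K ⧸ center K) := by
      rw [← index_eq_card, ← hle]
      exact T.not_dvd_index
    haveI := CfsgLib.FT.isSolvable_of_odd (K ⧸ center K) (Nat.odd_iff.2 (Nat.two_dvd_ne_zero.1 hodd))
    haveI : Group.IsSolvable (center K) := CfsgLib.Coprime.isSolvable_of_isMulCommutative inferInstance
    haveI : Group.IsSolvable K := Group.isSolvable_of_ker_le_range (center K).subtype q (by simp [q])
    exact CfsgLib.Coprime.not_isSolvable_of_isComponent hK inferInstance

/-- The components are normal. -/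
theorem component_normal (h : Pre P B) {K : Subgroup X} (hK : Cfsg.IsComponent K) : K.Normal := by
  refine normalizer_eq_top_iff.1 (top_le_iff.1 ?_)
  rw [← h.gen, Subgroup.normalClosure, Subgroup.closure_le]
  intro x hx
  obtain ⟨b, hb, hc⟩ := Group.mem_conjugatesOfSet_iff.1 hx
  obtain ⟨g, rfl⟩ := isConj_iff.1 hc
  have hK' : Cfsg.IsComponent (CfsgLib.Coprime.conjBy g⁻¹ K) :=
    CfsgLib.Coprime.isComponent_map_equiv (MulAut.conj g⁻¹) hK
  have h1 := h.normalizes hK' hb
  refine mem_normalizer_fintype fun k hk => ?_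
  have hk' : g⁻¹ * k * g ∈ CfsgLib.Coprime.conjBy g⁻¹ K := CfsgLib.Coprime.mem_conjBy.2 (by
    rw [inv_inv, show g * (g⁻¹ * k * g) * g⁻¹ = k by group]; exact hk)
  have h2 := CfsgLib.Coprime.mem_conjBy.1 ((mem_normalizer_iff.1 h1 _).1 hk')
  rw [inv_inv] at h2
  have e : g * b * g⁻¹ * k * (g * b * g⁻¹)⁻¹ = g * (b * (g⁻¹ * k * g) * b⁻¹) * g⁻¹ := by group
  show g * b * g⁻¹ * k * (g * b * g⁻¹)⁻¹ ∈ K
  rw [e]
  exact h2

/-- No component is centralized by `B`. -/
theorem not_centralized (h : Pre P B) {K : Subgroup X} (hK : Cfsg.IsComponent K) :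
    ¬ B ≤ centralizer (K : Set X) := by
  intro hle
  haveI := h.component_normal hK
  have htop : centralizer (K : Set X) = ⊤ :=
    top_le_iff.1 (h.gen ▸ normalClosure_le_normal hle)
  refine CfsgLib.Coprime.center_ne_top_of_isQuasisimple hK.2 (top_unique fun x _ => ?_)
  exact mem_center_iff.2 fun k =>
    Subtype.ext (mem_centralizer_iff.1 (htop.ge (mem_top (x : X))) k k.2)

/-- Every component meets `B` outside its centre. -/
theorem exists_noncentral (h : Pre P B) {K : Subgroup X} (hK : Cfsg.IsComponent K) :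
    ∃ b : K, (b : X) ∈ B ∧ b ∉ center K := by
  haveI := Fact.mk Nat.prime_two
  haveI := h.component_normal hK
  by_contra hc
  push Not at hc
  refine h.not_centralized hK ?_
  set Z := (center K).map K.subtype with hZdef
  haveI : Z.Normal := ⟨by
    rintro _ ⟨z, hz, rfl⟩ n
    refine ⟨⟨n * z * n⁻¹, (inferInstance : K.Normal).conj_mem _ z.2 n⟩,
      mem_center_iff.2 fun k => Subtype.ext ?_, rfl⟩
    show (k : X) * (n * (z : X) * n⁻¹) = n * (z : X) * n⁻¹ * k
    have hk : n⁻¹ * (k : X) * n ∈ K := by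
      have := (inferInstance : K.Normal).conj_mem _ k.2 n⁻¹
      rwa [inv_inv] at this
    have h1 : n⁻¹ * (k : X) * n * (z : X) = (z : X) * (n⁻¹ * (k : X) * n) :=
      congrArg Subtype.val (mem_center_iff.1 hz ⟨_, hk⟩)
    calc (k : X) * (n * (z : X) * n⁻¹) = n * (n⁻¹ * (k : X) * n * (z : X)) * n⁻¹ := by group
      _ = n * ((z : X) * (n⁻¹ * (k : X) * n)) * n⁻¹ := by rw [h1]
      _ = n * (z : X) * n⁻¹ * k := by group⟩
  set π := QuotientGroup.mk' Z
  have hπ := QuotientGroup.mk'_surjective Z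
  set H := K.map π
  haveI : H.Normal := (inferInstance : K.Normal).map π hπ
  have hsc := Cfsg.Agent.S1250.result P B h.closed Z
  rw [← Sylow.coe_mapSurjective hπ] at hsc
  have hdisj : B.map π ⊓ H = ⊥ := by
    refine (Subgroup.eq_bot_iff_forall _).2 ?_
    rintro _ ⟨⟨b, hb, rfl⟩, k, hk, e⟩
    have h1 : k⁻¹ * b ∈ Z := QuotientGroup.eq.1 e
    have hbK : b ∈ K := by
      have h2 := mul_mem hk (map_subtype_le _ h1)
      simpa using h2
    exact (QuotientGroup.eq_one_iff b).2 ⟨⟨b, hbK⟩, hc ⟨b, hbK⟩ hb, rfl⟩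
  have hcore : Cfsg.oddCore H = ⊥ := by
    haveI := hK.2.2
    let f : K →* H := (π.comp K.subtype).codRestrict H fun k => ⟨k, k.2, rfl⟩
    have hfs : Function.Surjective f := by
      rintro ⟨_, k, hk, rfl⟩
      exact ⟨⟨k, hk⟩, Subtype.ext rfl⟩
    have hker : f.ker = center K := by
      ext k
      rw [MonoidHom.mem_ker]
      constructor
      · intro hk
        obtain ⟨z, hz, e⟩ : (k : X) ∈ Z := (QuotientGroup.eq_one_iff (k : X)).1 (congrArg Subtype.val hk)
        rwa [← Subtype.ext (e : (z : X) = k)]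
      · exact fun hk => Subtype.ext ((QuotientGroup.eq_one_iff (k : X)).2 ⟨k, hk, rfl⟩)
    let e : (K ⧸ center K) ≃* H :=
      (QuotientGroup.quotientMulEquivOfEq hker.symm).trans (QuotientGroup.quotientKerEquivOfSurjective f hfs)
    haveI : IsSimpleGroup H := e.isSimpleGroup_congr.1 inferInstance
    rcases (inferInstance : (Cfsg.oddCore H).Normal).eq_bot_or_eq_top with h0 | h0
    · exact h0
    · exfalso
      have hodd := CfsgLib.Coprime.pPrimeCore_coprime (G := H) Nat.prime_two
      rw [show Cfsg.pPrimeCore 2 H = ⊤ from h0, card_top, ← Nat.card_congr e.toEquiv] at hodd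
      haveI := CfsgLib.FT.isSolvable_of_odd (K ⧸ center K) (Nat.coprime_two_right.1 hodd)
      haveI : Group.IsSolvable (center K) := CfsgLib.Coprime.isSolvable_of_isMulCommutative inferInstance
      haveI : Group.IsSolvable K :=
        Group.isSolvable_of_ker_le_range (center K).subtype (QuotientGroup.mk' (center K)) (by simp)
      exact CfsgLib.Coprime.not_isSolvable_of_isComponent hK inferInstance
  have hcent := Cfsg.Agent.S1251.result (P.mapSurjective hπ) _ hsc H
    (by rw [normalizer_eq_top]; exact le_top) hcore hdisj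
  -- three subgroups
  have hBK : ⁅B, K⁆ ≤ Z := commutator_le.2 fun b hb k hk => by
    refine (QuotientGroup.eq_one_iff (N := Z) _).1 ?_
    show π ⁅b, k⁆ = 1
    rw [map_commutatorElement, commutatorElement_eq_one_iff_mul_comm]
    exact (mem_centralizer_iff.1 (hcent (mem_map_of_mem π hb)) (π k) (mem_map_of_mem π hk)).symm
  rw [← commutator_eq_bot_iff_le_centralizer]
  refine CfsgLib.Coprime.commutator_eq_bot_of_perfect (CfsgLib.Coprime.commutator_self_of_isComponent hK) ?_
  refine le_bot_iff.1 ((commutator_mono hBK le_rfl).trans ?_)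
  refine commutator_le.2 fun z hz k hk => ?_
  obtain ⟨z, hz, rfl⟩ := hz
  exact Subgroup.mem_bot.2 (commutatorElement_eq_one_iff_mul_comm.2
    (congrArg Subtype.val (mem_center_iff.1 hz ⟨k, hk⟩)).symm)

end Pre

end CfsgLib.Gold.Struct
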